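import Mathlib

/-!
Linear algebra for the proof that abelian subgroups of largest order lie in the `p`-core:
a unipotent automorphism and an alternating equivariant form.
-/

set_option autoImplicit false

namespace Cfsg.Agent.H30.JCore

open Finset

variable {p : ℕ} [hp : Fact p.Prime]
variable {V D : Type*} [AddCommGroup V] [Module (ZMod p) V] [AddCommGroup D] [Module (ZMod p) D]

open Polynomial in
theorem sub_one_pow_prime_pow (C : Module.End (ZMod p) V) (k : ℕ) :
    (C - 1) ^ p ^ k = C ^ p ^ k - 1 := by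
  have h : ((X - 1 : (ZMod p)[X])) ^ p ^ k = X ^ p ^ k - 1 := by
    rw [sub_pow_char_pow, one_pow]
  simpa using congrArg (aeval C) h

open Polynomial in
theorem sub_one_pow_pred_eq_sum (C : Module.End (ZMod p) V) (k : ℕ) :
    (C - 1) ^ (p ^ k - 1) = ∑ i ∈ range (p ^ k), C ^ i := by
  have h : ((X - 1 : (ZMod p)[X])) ^ (p ^ k - 1) = ∑ i ∈ range (p ^ k), X ^ i := by
    refine mul_right_cancel₀ (b := X - 1) ?_ ?_
    · simpa using X_sub_C_ne_zero (1 : ZMod p)
    · rw [geom_sum_mul, ← pow_succ, Nat.sub_add_cancel (Nat.one_le_pow _ _ hp.out.pos),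
        sub_pow_char_pow, one_pow]
  simpa [map_sum] using congrArg (aeval C) h

/-- The rewriting rule for an equivariant bilinear map. -/
theorem form_T_left (β : V →ₗ[ZMod p] V →ₗ[ZMod p] D) (C Ci : Module.End (ZMod p) V)
    (CD : Module.End (ZMod p) D) (hCi : C * Ci = 1) (hCi' : Ci * C = 1)
    (hC : ∀ u v, β (C u) (C v) = CD (β u v)) (u v : V) :
    β ((C - 1) u) v = (CD - 1) (β u (Ci v)) + β u ((-Ci * (C - 1)) v) := by
  have h1 : -Ci * (C - 1) = Ci - 1 := by rw [neg_mul, mul_sub, hCi', mul_one, neg_sub]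
  have h2 : C (Ci v) = v := by
    rw [← Module.End.mul_apply, hCi, Module.End.one_apply]
  have h3 := hC u (Ci v)
  rw [h2] at h3
  rw [h1]
  simp only [LinearMap.sub_apply, Module.End.one_apply, map_sub, h3]
  abel

variable (hp5 : 5 ≤ p)

include hp5 in
theorem eq_zero_of_eq_neg {x : D} (h : x = -x) : x = 0 := by
  have h2 : (2 : ZMod p) • x = 0 := by
    rw [two_smul]; nth_rewrite 2 [h]; exact add_neg_cancel x
  refine (smul_eq_zero.mp h2).resolve_left fun h0 => ?_
  have : ((2 : ℕ) : ZMod p) = 0 := by exact_mod_cast h0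
  have := Nat.le_of_dvd (by norm_num) ((ZMod.natCast_eq_zero_iff 2 p).mp this)
  omega

include hp5 in
/-- The case where the action on the target is quadratic. -/
theorem form_vanish_quadratic (β : V →ₗ[ZMod p] V →ₗ[ZMod p] D)
    (C Ci : Module.End (ZMod p) V) (CD : Module.End (ZMod p) D)
    (hCi : C * Ci = 1) (hCi' : Ci * C = 1)
    (hC : ∀ u v, β (C u) (C v) = CD (β u v)) (halt : ∀ u v, β u v = -β v u)
    (hT : (C - 1) ^ p = 0) (hTD : (CD - 1) * (CD - 1) = 0) (z : V) {i j : ℕ}
    (hij : p ≤ i + j) : β (((C - 1) ^ i) z) (((C - 1) ^ j) z) = 0 := by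
  set T := C - 1 with hTdef
  set U := -Ci with hU
  set N := (T ^ (p - 1)) z with hN
  set TD := CD - 1 with hTDdef
  have hTcomm : Commute Ci T := by
    rw [hTdef]; exact Commute.sub_right (by rw [Commute, SemiconjBy, hCi, hCi']) (Commute.one_right _)
  have hUT : Commute U T := hTcomm.neg_left
  have hTN : T N = 0 := by
    rw [hN, ← Module.End.mul_apply, ← pow_succ', Nat.sub_add_cancel hp.out.one_le, hT]
    rfl
  have hCN : C N = N := by
    have : (C - 1) N = 0 := hTN
    rwa [LinearMap.sub_apply, Module.End.one_apply, sub_eq_zero] at this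
  have hCiN : Ci N = N := by
    nth_rewrite 1 [← hCN]
    rw [← Module.End.mul_apply, hCi', Module.End.one_apply]
  have hUpow : ∀ m : ℕ, (U ^ m) N = (-1 : ZMod p) ^ m • N := by
    intro m
    induction m with
    | zero => simp
    | succ m ih =>
      rw [pow_succ', Module.End.mul_apply, ih, map_smul, hU, LinearMap.neg_apply, hCiN, pow_succ,
        mul_smul, neg_one_smul]
  have hstep : ∀ u v, TD (β (T u) v) = TD (β u ((U * T) v)) := by
    intro u v
    rw [form_T_left β C Ci CD hCi hCi' hC u v, map_add, ← Module.End.mul_apply, hTD,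
      LinearMap.zero_apply, zero_add]
  have hiter : ∀ (m : ℕ) u v, TD (β ((T ^ m) u) v) = TD (β u (((U * T) ^ m) v)) := by
    intro m
    induction m with
    | zero => simp
    | succ m ih =>
      intro u v
      rw [pow_succ', Module.End.mul_apply, hstep, ih, pow_succ]; rfl
  have htop : TD (β z N) = 0 := by
    have h1 := hiter (p - 1) z z
    rw [← hN, hUT.mul_pow, Module.End.mul_apply, ← hN, hUpow] at h1
    have hev : (-1 : ZMod p) ^ (p - 1) = 1 :=
      Even.neg_one_pow (Nat.Odd.sub_odd (hp.out.odd_of_ne_two (by omega)) odd_one)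
    rw [hev, one_smul, halt, map_neg] at h1
    exact eq_zero_of_eq_neg hp5 h1.symm
  have hmid : ∀ (m : ℕ) (E : Module.End (ZMod p) V) (ε : ZMod p), p - 1 ≤ m →
      E N = ε • N → TD (β z (E ((T ^ m) z))) = 0 := by
    intro m E ε hm hE
    rcases eq_or_lt_of_le hm with h | h
    · rw [← h, ← hN, hE, map_smul, map_smul, htop, smul_zero]
    · have : T ^ m = 0 := pow_eq_zero_of_le (by omega) hT
      rw [this]; simp
  have main : ∀ (i j : ℕ) (E : Module.End (ZMod p) V) (ε : ZMod p), Commute E T →
      E N = ε • N → p ≤ i + j → β ((T ^ i) z) (E ((T ^ j) z)) = 0 := by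
    intro i
    induction i with
    | zero =>
      intro j E ε _ _ h
      have : T ^ j = 0 := pow_eq_zero_of_le (by omega) hT
      rw [this]; simp
    | succ i ih =>
      intro j E ε hE hEN h
      rw [pow_succ', Module.End.mul_apply, form_T_left β C Ci CD hCi hCi' hC]
      have e1 : (U * T) (E ((T ^ j) z)) = (U * E) ((T ^ (j + 1)) z) := by
        simp only [pow_succ', ← Module.End.mul_apply]
        congr 1
        calc U * T * (E * T ^ j) = U * (T * E) * T ^ j := by simp only [mul_assoc]
          _ = U * (E * T) * T ^ j := by rw [hE.eq]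
          _ = U * E * (T * T ^ j) := by simp only [mul_assoc]
      have e2 : β ((T ^ i) z) ((U * T) (E ((T ^ j) z))) = 0 := by
        rw [e1]
        refine ih (j + 1) (U * E) (-ε) (hUT.mul_left hE) ?_ (by omega)
        rw [Module.End.mul_apply, hEN, map_smul, hU, LinearMap.neg_apply, hCiN, neg_smul, smul_neg]
      rw [← hTdef, ← hU, e2, add_zero, hiter]
      have e3 : ((U * T) ^ i) (Ci (E ((T ^ j) z))) = (U ^ i * Ci * E) ((T ^ (i + j)) z) := by
        rw [hUT.mul_pow, pow_add]
        simp only [← Module.End.mul_apply]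
        congr 1
        calc U ^ i * T ^ i * (Ci * (E * T ^ j)) = U ^ i * ((T ^ i * (Ci * E)) * T ^ j) := by
              simp only [mul_assoc]
          _ = U ^ i * ((Ci * E * T ^ i) * T ^ j) := by
              rw [((hTcomm.mul_left hE).symm.pow_left i).eq]
          _ = U ^ i * Ci * E * (T ^ i * T ^ j) := by simp only [mul_assoc]
      rw [e3]
      refine hmid _ _ (ε * (-1) ^ i) (by omega) ?_
      rw [Module.End.mul_apply, Module.End.mul_apply, hEN, map_smul, map_smul, hCiN, hUpow,
        smul_smul]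
  simpa using main i j 1 1 (Commute.one_left _) (by simp) hij

/-- The case where the target is fixed. -/
theorem form_vanish_invariant (β : V →ₗ[ZMod p] V →ₗ[ZMod p] D)
    (C Ci : Module.End (ZMod p) V) (hCi : C * Ci = 1) (hCi' : Ci * C = 1)
    (hC : ∀ u v, β (C u) (C v) = β u v) {m : ℕ} (hm : p ≤ 2 * m)
    (hT : (C - 1) ^ p = 0) (u v : V) : β (((C - 1) ^ m) u) (((C - 1) ^ m) v) = 0 := by
  set T := C - 1 with hTdef
  have hUT : Commute (-Ci) T := by
    refine Commute.neg_left ?_
    rw [hTdef]; exact Commute.sub_right (by rw [Commute, SemiconjBy, hCi, hCi']) (Commute.one_right _)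
  have hiter : ∀ (r : ℕ) u v, β ((T ^ r) u) v = β u (((-Ci * T) ^ r) v) := by
    intro r
    induction r with
    | zero => simp
    | succ r ih =>
      intro u v
      rw [pow_succ', Module.End.mul_apply, form_T_left β C Ci 1 hCi hCi' hC, sub_self,
        LinearMap.zero_apply, zero_add, ih, pow_succ]
      rfl
  rw [hiter, hUT.mul_pow, Module.End.mul_apply, ← Module.End.mul_apply (T ^ m), ← pow_add,
    pow_eq_zero_of_le (by omega) hT]
  simp

include hp5 in
/-- The form vanishes on the last three terms of a Jordan chain of length `p ^ k`. -/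
theorem form_vanish (β : V →ₗ[ZMod p] V →ₗ[ZMod p] D) (C : Module.End (ZMod p) V)
    (CD : Module.End (ZMod p) D) (hC : ∀ u v, β (C u) (C v) = CD (β u v))
    (halt : ∀ u, β u u = 0) {k : ℕ} (hk : 0 < k) (hCn : C ^ p ^ k = 1)
    (hTD : (CD - 1) ^ (k + 1) = 0) (z : V) {i j : ℕ} (hi : 1 ≤ i) (hi' : i ≤ 3)
    (hj : 1 ≤ j) (hj' : j ≤ 3) :
    β (((C - 1) ^ (p ^ k - i)) z) (((C - 1) ^ (p ^ k - j)) z) = 0 := by
  have hskew : ∀ u v, β u v = -β v u := fun u v => by
    have := halt (u + v)
    simp only [map_add, LinearMap.add_apply, halt, zero_add, add_zero] at this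
    exact eq_neg_of_add_eq_zero_right this
  rcases eq_or_ne k 1 with rfl | hk1
  · rcases eq_or_ne i j with rfl | hij
    · exact halt _
    simp only [pow_one] at hCn ⊢
    have hp1 : 1 + (p - 1) = p := by omega
    refine form_vanish_quadratic hp5 β C (C ^ (p - 1)) CD ?_ ?_ hC hskew ?_ ?_ z (by omega)
    · rw [← pow_succ', Nat.sub_add_cancel hp.out.one_le, hCn]
    · rw [← pow_succ, Nat.sub_add_cancel hp.out.one_le, hCn]
    · have := sub_one_pow_prime_pow C 1
      rw [pow_one] at this
      rw [this, hCn, sub_self]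
    · rw [← sq]; exact hTD
  · obtain ⟨l, rfl⟩ : ∃ l, k = l + 1 := ⟨k - 1, by omega⟩
    set R := p ^ l with hR
    have hRk : l + 2 ≤ R := by
      have : ∀ a : ℕ, 1 ≤ a → a + 2 ≤ p ^ a := by
        intro a ha
        induction a, ha using Nat.le_induction with
        | base => rw [pow_one]; omega
        | succ a _ ih => rw [pow_succ]; nlinarith
      exact this l (by omega)
    have hR3 : 3 ≤ R := by omega
    have hdp : (C ^ R - 1) ^ p = 0 := by
      rw [← sub_one_pow_prime_pow C l, ← pow_mul, ← pow_succ, sub_one_pow_prime_pow, hCn, sub_self]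
    have hCDR : CD ^ R = 1 := by
      rw [← sub_eq_zero, ← sub_one_pow_prime_pow]
      exact pow_eq_zero_of_le (by omega) hTD
    have hiterC : ∀ (r : ℕ) u v, β ((C ^ r) u) ((C ^ r) v) = (CD ^ r) (β u v) := by
      intro r
      induction r with
      | zero => simp
      | succ r ih =>
        intro u v
        rw [pow_succ', Module.End.mul_apply, Module.End.mul_apply, hC, ih, pow_succ',
          Module.End.mul_apply]
    have e : ∀ a, a ≤ 3 → (C - 1) ^ (p ^ (l + 1) - a) = (C ^ R - 1) ^ (p - 1) * (C - 1) ^ (R - a) := by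
      intro a ha
      rw [← sub_one_pow_prime_pow C l, ← pow_mul, ← pow_add]
      congr 1
      have h1 : p ^ (l + 1) = p * R := by rw [hR, pow_succ']
      obtain ⟨q, hq⟩ : ∃ q, p = q + 1 := ⟨p - 1, by omega⟩
      rw [h1, ← hR, hq, Nat.add_sub_cancel, Nat.add_mul, one_mul, mul_comm R q]
      omega
    rw [e i hi', e j hj', Module.End.mul_apply, Module.End.mul_apply]
    have h1 : C ^ R * (C ^ R) ^ (p - 1) = 1 := by
      rw [← pow_succ', Nat.sub_add_cancel hp.out.one_le, ← pow_mul, hR, ← pow_succ, hCn]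
    have h2 : (C ^ R) ^ (p - 1) * C ^ R = 1 := by
      rw [← pow_succ, Nat.sub_add_cancel hp.out.one_le, ← pow_mul, hR, ← pow_succ, hCn]
    refine form_vanish_invariant β (C ^ R) _ h1 h2 (fun u v => ?_) (by omega) hdp _ _
    rw [hiterC, hCDR, Module.End.one_apply]

/-- A nilpotent endomorphism with range of order at most `p ^ k` has `(k+1)`-st power zero. -/
theorem pow_succ_eq_zero_of_card_range_le [Finite D] {f : Module.End (ZMod p) D} {m k : ℕ}
    (hf : f ^ m = 0) (hk : Nat.card (LinearMap.range f) ≤ p ^ k) : f ^ (k + 1) = 0 := by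
  have hdim : Module.finrank (ZMod p) (LinearMap.range f) ≤ k := by
    rw [Module.natCard_eq_pow_finrank (K := ZMod p), Nat.card_zmod] at hk
    exact (Nat.pow_le_pow_iff_right hp.out.one_lt).mp hk
  have key : ∀ i : ℕ, f ^ (i + 1) = 0 ∨
      Module.finrank (ZMod p) (LinearMap.range (f ^ (i + 1))) + i ≤ k := by
    intro i
    induction i with
    | zero => right; rw [pow_one]; simpa using hdim
    | succ i ih =>
      rcases ih with h | h
      · left; rw [pow_succ, h, zero_mul]
      have hle : LinearMap.range (f ^ (i + 1 + 1)) ≤ LinearMap.range (f ^ (i + 1)) := by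
        rw [pow_succ, Module.End.mul_eq_comp]; exact LinearMap.range_comp_le_range _ _
      rcases eq_or_lt_of_le hle with he | hlt
      · left
        have hst : ∀ r, LinearMap.range (f ^ (i + 1 + r)) = LinearMap.range (f ^ (i + 1)) := by
          intro r
          induction r with
          | zero => rfl
          | succ r ihr =>
            rw [show i + 1 + (r + 1) = (i + 1 + r) + 1 by omega, pow_succ', Module.End.mul_eq_comp,
              LinearMap.range_comp, ihr, ← LinearMap.range_comp, ← Module.End.mul_eq_comp, ← pow_succ']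
            exact he
        have h0 := hst m
        rw [pow_eq_zero_of_le (by omega) hf, LinearMap.range_zero, eq_comm,
          LinearMap.range_eq_bot] at h0
        rw [pow_succ, h0, zero_mul]
      · right
        have := Submodule.finrank_lt_finrank_of_lt hlt
        omega
  rcases key k with h | h
  · exact h
  · have h0 : Module.finrank (ZMod p) (LinearMap.range (f ^ (k + 1))) = 0 := by omega
    exact LinearMap.range_eq_bot.mp (Submodule.finrank_eq_zero.mp h0)

/-- Averaging: if the norm element of a fixed-point-free cyclic action vanishes then the complement acts trivially. -/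
theorem eq_one_of_norm_eq_zero {ι : Type*} [Fintype ι] (r : ι → Module.End (ZMod p) V)
    (r' : ι → Module.End (ZMod p) V) (hrr : ∀ s, r s * r' s = 1)
    (hι : ¬ p ∣ Fintype.card ι) (C : Module.End (ZMod p) V) {k : ℕ}
    (hN : (C - 1) ^ (p ^ k - 1) = 0)
    (ψ : ℕ → ι → ι) (hψ : ∀ i, 0 < i → i < p ^ k → Function.Bijective (ψ i))
    (hconj : ∀ i, 0 < i → i < p ^ k → ∀ s, r s * C ^ i * r' s = r (ψ i s) * C ^ i)
    (mulι : ι → ι → ι) (hbij : ∀ t, Function.Bijective (mulι t))
    (hmul : ∀ t s, r (mulι t s) = r t * r s) : ∀ t, r t = 1 := by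
  classical
  obtain ⟨n, hn⟩ : ∃ n, p ^ k = n + 1 := ⟨p ^ k - 1, (Nat.sub_add_cancel (Nat.one_le_pow _ _ hp.out.pos)).symm⟩
  set S := ∑ s, r s with hS
  have hsum : ∑ i ∈ range (p ^ k), C ^ i = 0 := by rw [← sub_one_pow_pred_eq_sum, hN]
  have h1 : ∀ i ∈ range n, ∑ s, r s * C ^ (i + 1) * r' s = S * C ^ (i + 1) := by
    intro i hi
    rw [mem_range] at hi
    have hi' : i + 1 < p ^ k := by omega
    rw [Finset.sum_congr rfl fun s _ => hconj _ (Nat.succ_pos i) hi' s, ← Finset.sum_mul]
    congr 1
    exact (hψ _ (Nat.succ_pos i) hi').sum_comp r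
  have h2 : ∑ i ∈ range n, C ^ (i + 1) = -1 := by
    rw [hn, Finset.sum_range_succ', pow_zero] at hsum
    exact eq_neg_of_add_eq_zero_left hsum
  have h3 : (0 : Module.End (ZMod p) V) = -S + (Fintype.card ι : ℕ) • 1 := by
    have : ∑ s, r s * (∑ i ∈ range (p ^ k), C ^ i) * r' s = 0 := by simp [hsum]
    simp only [Finset.mul_sum, Finset.sum_mul] at this
    rw [Finset.sum_comm, hn, Finset.sum_range_succ', Finset.sum_congr rfl h1, ← Finset.mul_sum,
      h2] at this
    simp only [pow_zero, mul_one, hrr, Finset.sum_const, Finset.card_univ] at this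
    rw [← this, mul_neg, mul_one]
  have hSeq : S = (Fintype.card ι : ℕ) • 1 := by
    rw [← sub_eq_zero, ← neg_eq_zero, neg_sub, sub_eq_add_neg, add_comm, ← h3]
  intro t
  have h4 : r t * S = S := by
    rw [hS, Finset.mul_sum, Finset.sum_congr rfl fun s _ => (hmul t s).symm]
    exact (hbij t).sum_comp r
  rw [hSeq, mul_smul_comm, mul_one] at h4
  rw [← Nat.cast_smul_eq_nsmul (ZMod p), ← Nat.cast_smul_eq_nsmul (ZMod p)] at h4
  exact smul_right_injective _ (fun h => hι ((ZMod.natCast_eq_zero_iff _ _).mp h)) h4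

end Cfsg.Agent.H30.JCore
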