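import Cfsg.Agent.H30.JCore.Layer

/-!
The module of a layer, its form, and the representation of the group on them.
-/

set_option autoImplicit false

namespace Cfsg.Agent.H30.JCore

open Subgroup
open scoped commutatorElement

variable {p : ℕ} {G : Type*} [Group G] {P Q : Subgroup G}

namespace Fac

variable (L : Fac p P)

instance instNormalY : L.Y.Normal := L.normalY

instance instNormalY0 : L.Y0.Normal := L.normalY0

instance instCommGroupQuot : CommGroup (L.Y ⧸ L.Y0.subgroupOf L.Y) where
  toGroup := inferInstance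
  mul_comm := by
    intro a b
    induction a using QuotientGroup.induction_on with
    | H a =>
      induction b using QuotientGroup.induction_on with
      | H b =>
        rw [← QuotientGroup.mk_mul, ← QuotientGroup.mk_mul, QuotientGroup.eq, mem_subgroupOf]
        have := L.comm_mem _ (inv_mem b.2) _ (inv_mem a.2)
        simpa [commutatorElement_def, mul_assoc] using this

/-- the module `Y / Y₀` -/
abbrev V : Type _ := Additive (L.Y ⧸ L.Y0.subgroupOf L.Y)

instance instModuleV : Module (ZMod p) L.V := AddCommGroup.zmodModule (by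
  intro x
  obtain ⟨y, hy⟩ := QuotientGroup.mk_surjective (Additive.toMul x)
  apply Additive.toMul.injective
  rw [toMul_nsmul, ← hy, ← QuotientGroup.mk_pow, toMul_zero, QuotientGroup.eq_one_iff]
  exact L.pow_mem _ y.2)

/-- the projection to the module -/
def toV (y : L.Y) : L.V := Additive.ofMul (y : L.Y ⧸ L.Y0.subgroupOf L.Y)

theorem toV_surjective : Function.Surjective L.toV := fun v => by
  obtain ⟨y, hy⟩ := QuotientGroup.mk_surjective (Additive.toMul v)
  exact ⟨y, hy⟩

theorem toV_mul (a b : L.Y) : L.toV (a * b) = L.toV a + L.toV b := rfl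

theorem toV_inv (a : L.Y) : L.toV a⁻¹ = -L.toV a := rfl

theorem toV_one : L.toV 1 = 0 := rfl

theorem toV_eq_zero_iff {a : L.Y} : L.toV a = 0 ↔ (a : G) ∈ L.Y0 :=
  (QuotientGroup.eq_one_iff a).trans mem_subgroupOf

/-- conjugation on the quotient -/
def conjQuot (g : G) : L.Y ⧸ L.Y0.subgroupOf L.Y →* L.Y ⧸ L.Y0.subgroupOf L.Y :=
  QuotientGroup.map _ _ (MulAut.conjNormal g).toMonoidHom fun y hy => by
    simpa [mem_subgroupOf, MulAut.conjNormal_apply] using L.normalY0.conj_mem _ hy g

/-- the representation on the module -/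
def ρ : G →* Module.End (ZMod p) L.V where
  toFun g := AddMonoidHom.toZModLinearMap p (MonoidHom.toAdditive (L.conjQuot g))
  map_one' := by
    refine LinearMap.ext fun v => ?_
    obtain ⟨a, rfl⟩ := L.toV_surjective v
    change L.toV (MulAut.conjNormal (1 : G) a) = L.toV a
    rw [map_one, MulAut.one_apply]
  map_mul' g h := by
    refine LinearMap.ext fun v => ?_
    obtain ⟨a, rfl⟩ := L.toV_surjective v
    change L.toV (MulAut.conjNormal (g * h) a) = L.toV (MulAut.conjNormal g (MulAut.conjNormal h a))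
    rw [map_mul, MulAut.mul_apply]

theorem ρ_toV (g : G) (a : L.Y) : L.ρ g (L.toV a) = L.toV (MulAut.conjNormal g a) := rfl

theorem ρ_eq_one_of_mem {x : G} (hx : x ∈ P) : L.ρ x = 1 := by
  refine LinearMap.ext fun v => ?_
  obtain ⟨a, rfl⟩ := L.toV_surjective v
  rw [ρ_toV, Module.End.one_apply, ← sub_eq_zero, sub_eq_add_neg, ← toV_inv, ← toV_mul, toV_eq_zero_iff]
  change x * (a : G) * x⁻¹ * (a : G)⁻¹ ∈ L.Y0
  exact L.commP x hx a a.2

end Fac

namespace Sec

open Fac (ρ_toV toV_mul toV_inv toV_eq_zero_iff)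

variable (L : Sec p P)

/-- the derived subgroup of the layer -/
abbrev Dg : Subgroup G := ⁅L.Y, L.Y⁆

instance instCommGroupD : CommGroup L.Dg where
  toGroup := inferInstance
  mul_comm a b := Subtype.ext (L.central _
    ((commutator_le.mpr L.comm_mem) a.2) _ (commutator_le_left L.Y L.Y b.2))

instance instModuleD : Module (ZMod p) (Additive L.Dg) := AddCommGroup.zmodModule (by
  intro x
  apply Additive.toMul.injective
  rw [toMul_nsmul, toMul_zero]
  exact Subtype.ext (L.powD _ (Additive.toMul x).2))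

theorem comm_mul_left (a b c : L.Y) : ⁅(a : G) * b, (c : G)⁆ = ⁅(a : G), (c : G)⁆ * ⁅(b : G), (c : G)⁆ := by
  have h1 : ⁅(a : G) * b, (c : G)⁆ = (a : G) * ⁅(b : G), (c : G)⁆ * (a : G)⁻¹ * ⁅(a : G), (c : G)⁆ := by
    simp only [commutatorElement_def]; group
  rw [h1, ← L.central _ (L.comm_mem _ b.2 _ c.2) _ a.2, mul_inv_cancel_right]
  exact L.central _ (L.comm_mem _ b.2 _ c.2) _ (L.le (L.comm_mem _ a.2 _ c.2))

theorem comm_mul_right (c a b : L.Y) : ⁅(c : G), (a : G) * b⁆ = ⁅(c : G), (a : G)⁆ * ⁅(c : G), (b : G)⁆ := by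
  have h := congrArg (fun g => g⁻¹) (L.comm_mul_left a b c)
  simp only [commutatorElement_inv, mul_inv_rev] at h
  rw [h]
  exact L.central _ (L.comm_mem _ c.2 _ b.2) _ (L.le (L.comm_mem _ c.2 _ a.2))

/-- commutation with a fixed element -/
def commHom (a : L.Y) : L.Y →* L.Dg where
  toFun b := ⟨⁅(a : G), (b : G)⁆, commutator_mem_commutator a.2 b.2⟩
  map_one' := Subtype.ext (by simp [commutatorElement_def])
  map_mul' b c := Subtype.ext (L.comm_mul_right a b c)

/-- the inner form -/
def form₁ (a : L.Y) : L.Y ⧸ L.Y0.subgroupOf L.Y →* L.Dg :=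
  QuotientGroup.lift _ (L.commHom a) fun b hb => Subtype.ext
    (commutatorElement_eq_one_iff_mul_comm.mpr (L.central _ hb _ a.2).symm)

/-- the form, multiplicatively -/
def form₂ : (L.Y ⧸ L.Y0.subgroupOf L.Y) →* (L.Y ⧸ L.Y0.subgroupOf L.Y →* L.Dg) :=
  QuotientGroup.lift _
    { toFun := L.form₁
      map_one' := by
        ext b
        exact (commutatorElement_one_left _)
      map_mul' := fun a a' => by
        ext b
        exact L.comm_mul_left a a' b }
    fun a ha => by
      rw [MonoidHom.mem_ker]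
      ext b
      exact commutatorElement_eq_one_iff_mul_comm.mpr (L.central _ ha _ b.2)

/-- the alternating form -/
def β : L.V →ₗ[ZMod p] L.V →ₗ[ZMod p] Additive L.Dg :=
  AddMonoidHom.toZModLinearMap p (AddMonoidHom.mk'
    (fun u => AddMonoidHom.toZModLinearMap p (MonoidHom.toAdditive (L.form₂ (Additive.toMul u))))
    (fun u u' => by
      refine LinearMap.ext fun v => ?_
      simp [AddMonoidHom.coe_toZModLinearMap, map_mul, MonoidHom.mul_apply]))

theorem β_toV (a b : L.Y) : L.β (L.toV a) (L.toV b) =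
    Additive.ofMul (⟨⁅(a : G), (b : G)⁆, commutator_mem_commutator a.2 b.2⟩ : L.Dg) := rfl

theorem β_self (u : L.V) : L.β u u = 0 := by
  obtain ⟨a, rfl⟩ := L.toV_surjective u
  rw [β_toV]
  exact congrArg Additive.ofMul (Subtype.ext (commutatorElement_self _))

theorem commute_of_β {a b : L.Y} (h : L.β (L.toV a) (L.toV b) = 0) : (a : G) * b = b * a := by
  rw [β_toV] at h
  exact commutatorElement_eq_one_iff_mul_comm.mp (congrArg Subtype.val (congrArg Additive.toMul h))

/-- the representation on the derived subgroup -/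
def ρD : G →* Module.End (ZMod p) (Additive L.Dg) where
  toFun g := AddMonoidHom.toZModLinearMap p
    (MonoidHom.toAdditive (MulAut.conjNormal g : MulAut L.Dg).toMonoidHom)
  map_one' := by
    refine LinearMap.ext fun v => ?_
    change Additive.ofMul ((MulAut.conjNormal (1 : G) : MulAut L.Dg) (Additive.toMul v)) = v
    rw [map_one]; rfl
  map_mul' g h := by
    refine LinearMap.ext fun v => ?_
    change Additive.ofMul ((MulAut.conjNormal (g * h) : MulAut L.Dg) (Additive.toMul v)) = _
    rw [map_mul]; rfl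

theorem ρD_apply (g : G) (d : L.Dg) : L.ρD g (Additive.ofMul d) =
    Additive.ofMul ((MulAut.conjNormal g : MulAut L.Dg) d) := rfl

theorem β_equivariant (g : G) (u v : L.V) : L.β (L.ρ g u) (L.ρ g v) = L.ρD g (L.β u v) := by
  obtain ⟨a, rfl⟩ := L.toV_surjective u
  obtain ⟨b, rfl⟩ := L.toV_surjective v
  rw [ρ_toV, ρ_toV, β_toV, β_toV, ρD_apply]
  refine congrArg Additive.ofMul (Subtype.ext ?_)
  change ⁅g * (a : G) * g⁻¹, g * (b : G) * g⁻¹⁆ = g * ⁅(a : G), (b : G)⁆ * g⁻¹
  simp only [commutatorElement_def]; group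

theorem ρD_eq_one_of_mem {x : G} (hx : x ∈ P) : L.ρD x = 1 := by
  refine LinearMap.ext fun v => ?_
  obtain ⟨d, rfl⟩ := Additive.ofMul.surjective v
  rw [ρD_apply, Module.End.one_apply]
  refine congrArg Additive.ofMul (Subtype.ext ?_)
  change x * (d : G) * x⁻¹ = d
  rw [← L.commD d d.2 x hx, mul_inv_cancel_right]

end Sec

namespace Layer

open Fac (ρ_toV toV_mul toV_inv toV_eq_zero_iff)

variable (L : Layer p P Q)

theorem not_forall_ρ_eq_one : ¬ ∀ t ∈ Q, L.ρ t = 1 := by
  intro h
  obtain ⟨t, ht, y, hy, hne⟩ := L.moves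
  refine hne ?_
  have h1 : L.toV (MulAut.conjNormal t ⟨y, hy⟩) - L.toV ⟨y, hy⟩ = 0 := by
    rw [← ρ_toV, h t ht, Module.End.one_apply, sub_self]
  rw [sub_eq_add_neg, ← toV_inv, ← toV_mul, toV_eq_zero_iff] at h1
  exact h1

end Layer

end Cfsg.Agent.H30.JCore
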