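import Cfsg.Agent.H30.JCore.Good
import Cfsg.Agent.H30.JCore.Rep
import Cfsg.Agent.H30.JCore.LinAlg

/-!
The commutator calculus of an abelian group on a section with central derived subgroup.
-/

set_option autoImplicit false
set_option linter.unusedSectionVars false

namespace Cfsg.Agent.H30.JCore

open Subgroup
open scoped commutatorElement

variable {p : ℕ} [hp : Fact p.Prime] {G : Type*} [Group G] [Finite G]
variable {P T A : Subgroup G} (L : Sec p P)

namespace Sec

/-- `ρ - 1` on the section -/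
def t (a : G) : Module.End (ZMod p) L.V := L.ρ a - 1

/-- `ρ - 1` on the derived subgroup -/
def δ (a : G) : Module.End (ZMod p) (Additive L.Dg) := L.ρD a - 1

/-- an element of the derived subgroup as an element of the section -/
def ι (v : Additive L.Dg) : L.Y :=
  ⟨((Additive.toMul v : L.Dg) : G), (commutator_le_left L.Y L.Y) (Additive.toMul v).2⟩

/-- commutation with `a` -/
def da (a : G) (y : L.Y) : L.Y := y⁻¹ * MulAut.conjNormal a y

theorem coe_da (a : G) (y : L.Y) : (L.da a y : G) = (y : G)⁻¹ * (a * y * a⁻¹) := rfl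

theorem toV_da (a : G) (y : L.Y) : L.toV (L.da a y) = L.t a (L.toV y) := by
  rw [da, L.toV_mul, L.toV_inv, ← L.ρ_toV, t, LinearMap.sub_apply, Module.End.one_apply]
  abel

theorem ι_add (v w : Additive L.Dg) : L.ι (v + w) = L.ι v * L.ι w := Subtype.ext rfl

theorem ι_neg (v : Additive L.Dg) : L.ι (-v) = (L.ι v)⁻¹ := Subtype.ext rfl

theorem ι_zero : L.ι 0 = 1 := Subtype.ext rfl

theorem coe_ι_mem (v : Additive L.Dg) : (L.ι v : G) ∈ L.Dg := (Additive.toMul v).2

theorem ι_mem_Y0 (v : Additive L.Dg) : (L.ι v : G) ∈ L.Y0 :=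
  (commutator_le.mpr L.comm_mem) (L.coe_ι_mem v)

theorem toV_ι (v : Additive L.Dg) : L.toV (L.ι v) = 0 := L.toV_eq_zero_iff.mpr (L.ι_mem_Y0 v)

theorem ι_comm (v : Additive L.Dg) {y : G} (hy : y ∈ L.Y) : (L.ι v : G) * y = y * L.ι v :=
  L.central _ (L.ι_mem_Y0 v) y hy

theorem conj_ι (g : G) (v : Additive L.Dg) : g * (L.ι v : G) * g⁻¹ = L.ι (L.ρD g v) := rfl

theorem conj_ι' (g : G) (v : Additive L.Dg) :
    g * (L.ι v : G) * g⁻¹ = (L.ι v : G) * L.ι (L.δ g v) := by
  rw [L.conj_ι, ← Subgroup.coe_mul, ← L.ι_add, δ, LinearMap.sub_apply, Module.End.one_apply,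
    add_sub_cancel]

theorem δ_eq_zero_of_commute {g : G} {v : Additive L.Dg}
    (h : g * (L.ι v : G) = L.ι v * g) : L.δ g v = 0 := by
  have h1 := L.conj_ι' g v
  rw [h, mul_inv_cancel_right, left_eq_mul] at h1
  exact Additive.toMul.injective (Subtype.ext h1)

theorem commute_of_δ {g : G} {v : Additive L.Dg} (h : L.δ g v = 0) :
    g * (L.ι v : G) = L.ι v * g := by
  have h1 := L.conj_ι' g v
  rw [h, L.ι_zero, Subgroup.coe_one, mul_one, mul_inv_eq_iff_eq_mul] at h1
  exact h1

theorem mul_eq_β (y y' : L.Y) :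
    (y : G) * y' = (L.ι (L.β (L.toV y) (L.toV y')) : G) * ((y' : G) * y) := by
  rw [show (L.ι (L.β (L.toV y) (L.toV y')) : G) = ⁅(y : G), (y' : G)⁆ from rfl, commutatorElement_def]
  group

theorem β_eq_zero_of_commute {y y' : L.Y} (h : (y : G) * y' = y' * y) :
    L.β (L.toV y) (L.toV y') = 0 := by
  rw [β_toV]
  exact congrArg Additive.ofMul (Subtype.ext (commutatorElement_eq_one_iff_mul_comm.mpr h))

theorem β_skew (u v : L.V) : L.β u v = -L.β v u := by
  have h := L.β_self (u + v)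
  simp only [map_add, LinearMap.add_apply, L.β_self u, L.β_self v, zero_add, add_zero] at h
  exact eq_neg_of_add_eq_zero_right h

theorem conj_eq_mul_β (y y' : L.Y) :
    (y : G)⁻¹ * y' * y = (y' : G) * L.ι (L.β (L.toV y') (L.toV y)) := by
  rw [mul_assoc, L.mul_eq_β y' y, ← mul_assoc, ← L.ι_comm _ (inv_mem y.2), mul_assoc,
    inv_mul_cancel_left, L.ι_comm _ y'.2]

theorem t_mul (a b : G) (v : L.V) : L.t (a * b) v = L.t a v + L.t b v + L.t a (L.t b v) := by
  simp only [t, map_mul, LinearMap.sub_apply, Module.End.one_apply, Module.End.mul_apply, map_sub]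
  abel

theorem t_t (a b : G) (v : L.V) : L.t a (L.t b v) = L.t (a * b) v - L.t a v - L.t b v := by
  rw [t_mul]; abel

theorem t_comm {a b : G} (h : a * b = b * a) (v : L.V) : L.t a (L.t b v) = L.t b (L.t a v) := by
  rw [t_t, t_t, h]; abel

theorem t_one (v : L.V) : L.t 1 v = 0 := by
  simp [t, map_one]

theorem ρ_apply (a : G) (v : L.V) : L.ρ a v = v + L.t a v := by
  simp [t]

theorem δ_form (a : G) (u v : L.V) :
    L.δ a (L.β u v) = L.β (L.t a u) v + L.β u (L.t a v) + L.β (L.t a u) (L.t a v) := by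
  rw [δ, LinearMap.sub_apply, Module.End.one_apply, ← L.β_equivariant, L.ρ_apply, L.ρ_apply,
    map_add]
  simp only [map_add, LinearMap.add_apply]
  abel

end Sec

end Cfsg.Agent.H30.JCore
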