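import Cfsg.Agent.H30.JCore.Length

/-!
Chief factors below a normal `p`-subgroup as sections, and the nilpotent pairing action.
-/

set_option autoImplicit false
set_option linter.unusedSectionVars false

namespace Cfsg.Agent.H30.JCore

open Subgroup
open scoped commutatorElement

variable {p : ℕ} [hp : Fact p.Prime] {G : Type*} [Group G] [Finite G] {P : Subgroup G}

theorem commutator_sup_le {U V : Subgroup G} [V.Normal] (hP : IsPGroup p P) (hUP : U ≤ P)
    (hne : ¬ U ≤ V) : ¬ U ≤ ⁅U, P⁆ ⊔ V := by
  intro he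
  have key : ∀ n, U ≤ P.lowerCentralSeries n ⊔ V := by
    intro n
    induction n with
    | zero => exact hUP.trans le_sup_left
    | succ n ih =>
      refine he.trans (sup_le (commutator_le.mpr fun a ha x hx => ?_) le_sup_right)
      obtain ⟨l, hl, v, hv, rfl⟩ : ∃ l ∈ P.lowerCentralSeries n, ∃ v ∈ V, l * v = a := by
        have h := ih ha
        rw [← SetLike.mem_coe, Subgroup.mul_normal] at h
        exact Set.mem_mul.mp h
      have h1 : ⁅l * v, x⁆ = (l * ⁅v, x⁆ * l⁻¹) * ⁅l, x⁆ := by
        simp only [commutatorElement_def]; group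
      rw [h1]
      refine mul_mem (mem_sup_right (Normal.conj_mem inferInstance _ ?_ l))
        (mem_sup_left (commutator_mem_commutator hl hx))
      rw [commutatorElement_def, mul_assoc v, mul_assoc v]
      exact mul_mem hv (Normal.conj_mem inferInstance _ (inv_mem hv) x)
  have := hP.isNilpotent
  obtain ⟨n, hn⟩ := (Subgroup.isNilpotent_iff_lowerCentralSeries P).mp this
  exact hne (by simpa [hn] using key n)

/-- A chief factor below a normal `p`-subgroup is an elementary abelian section. -/
def Fac.ofChief [P.Normal] (hP : IsPGroup p P) {U V : Subgroup G} (hUn : U.Normal) (hVn : V.Normal)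
    (hVU : V ≤ U) (hne : ¬ U ≤ V) (hUP : U ≤ P)
    (hchief : ∀ N : Subgroup G, N.Normal → V ≤ N → N ≤ U → N = V ∨ N = U) : Fac p P :=
  haveI := hUn
  haveI := hVn
  have hcomm : ∀ x ∈ P, ∀ y ∈ U, ⁅x, y⁆ ∈ V := fun x hx y hy => by
    rcases hchief (⁅U, P⁆ ⊔ V) inferInstance le_sup_right (sup_le (commutator_le_left U P) hVU) with h | h
    · exact h.le (mem_sup_left (commutator_comm U P ▸ commutator_mem_commutator hx hy))
    · exact absurd h.ge (commutator_sup_le hP hUP hne)
  have hc : ∀ y ∈ U, ∀ y' ∈ U, ⁅y, y'⁆ ∈ V := fun y hy y' hy' => hcomm y (hUP hy) y' hy'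
  { Y := U
    Y0 := V
    normalY := hUn
    normalY0 := hVn
    leP := hUP
    le := hVU
    comm_mem := hc
    commP := hcomm
    pow_mem := by
      letI : CommGroup (U ⧸ V.subgroupOf U) :=
        { (inferInstance : Group (U ⧸ V.subgroupOf U)) with
          mul_comm := fun a b => by
            induction a using QuotientGroup.induction_on with
            | H a =>
              induction b using QuotientGroup.induction_on with
              | H b =>
                rw [← QuotientGroup.mk_mul, ← QuotientGroup.mk_mul, QuotientGroup.eq, mem_subgroupOf]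
                have := hc _ (inv_mem b.2) _ (inv_mem a.2)
                simpa [commutatorElement_def, mul_assoc] using this }
      set W : Subgroup U := (powMonoidHom p : (U ⧸ V.subgroupOf U) →* _).ker.comap
        (QuotientGroup.mk' (V.subgroupOf U)) with hW
      have hmem : ∀ w : U, w ∈ W ↔ (w : G) ^ p ∈ V := fun w => by
        rw [hW, mem_comap, MonoidHom.mem_ker, powMonoidHom_apply, ← map_pow, QuotientGroup.mk'_apply,
          QuotientGroup.eq_one_iff, mem_subgroupOf, SubmonoidClass.coe_pow]
      have hWn : (W.map U.subtype).Normal := ⟨by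
        rintro _ ⟨w, hw, rfl⟩ g
        refine ⟨MulAut.conjNormal g w, ?_, rfl⟩
        change MulAut.conjNormal g w ∈ W
        rw [hmem, MulAut.conjNormal_apply, conj_pow]
        exact hVn.conj_mem _ ((hmem w).mp hw) g⟩
      have hVW : V ≤ W.map U.subtype := fun v hv =>
        ⟨⟨v, hVU hv⟩, (hmem _).mpr (_root_.pow_mem hv p), rfl⟩
      rcases hchief _ hWn hVW (map_subtype_le W) with h | h
      · exfalso
        obtain ⟨x, hxU, hxV⟩ := SetLike.not_le_iff_exists.mp hne
        have : Nontrivial (U ⧸ V.subgroupOf U) :=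
          ⟨⟨QuotientGroup.mk' (V.subgroupOf U) ⟨x, hxU⟩, 1, fun hh => hxV (mem_subgroupOf.mp ((QuotientGroup.eq_one_iff _).mp hh))⟩⟩
        obtain ⟨m, hm, hcard⟩ :=
          (IsPGroup.nontrivial_iff_card ((hP.to_le hUP).to_quotient (V.subgroupOf U))).mp this
        obtain ⟨q, hq⟩ := exists_prime_orderOf_dvd_card' (G := U ⧸ V.subgroupOf U) p
          (hcard ▸ dvd_pow_self p (by omega))
        obtain ⟨w, rfl⟩ := QuotientGroup.mk'_surjective _ q
        have hwW : w ∈ W := by
          rw [hW, mem_comap, MonoidHom.mem_ker, powMonoidHom_apply]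
          conv_lhs => rw [← hq]
          exact pow_orderOf_eq_one _
        have hwV : (w : G) ∈ V := h ▸ mem_map_of_mem U.subtype hwW
        rw [(QuotientGroup.eq_one_iff (N := V.subgroupOf U) w).mpr hwV |> fun e =>
          (QuotientGroup.mk'_apply _ w).trans e, orderOf_one] at hq
        exact hp.out.one_lt.ne hq
      · intro y hy
        obtain ⟨w, hw, rfl⟩ := h.ge hy
        exact (hmem w).mp hw }

/-- A section with `Y₀` central in `Y` has a form. -/
def Fac.toSec' [P.Normal] (F : Fac p P) (hcen : ∀ z ∈ F.Y0, ∀ y ∈ F.Y, z * y = y * z) : Sec p P :=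
  haveI := F.normalY
  have hYY : ⁅F.Y, F.Y⁆ ≤ F.Y0 := commutator_le.mpr F.comm_mem
  { F with
    central := hcen
    commD := fun d hd x hx => by
      have hc : ⁅F.Y0, F.Y⁆ = ⊥ := by
        rw [commutator_eq_bot_iff_le_centralizer]
        exact fun z hz => mem_centralizer_iff.mpr fun y hy => (hcen z hz y hy).symm
      have h1 : ⁅P, F.Y⁆ ≤ F.Y0 := commutator_le.mpr F.commP
      have h2 : ⁅⁅F.Y, F.Y⁆, P⁆ = ⊥ := by
        refine commutator_commutator_eq_bot_of_rotate ?_ ?_
        · rw [eq_bot_iff, commutator_comm F.Y P]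
          exact (commutator_mono h1 le_rfl).trans hc.le
        · rw [eq_bot_iff]
          exact (commutator_mono h1 le_rfl).trans hc.le
      exact (mem_centralizer_iff.mp ((commutator_eq_bot_iff_le_centralizer.mp h2) hd) x hx).symm
    powD := by
      intro d hd
      refine (closure_induction (p := fun d _ => d ∈ F.Y0 ∧ d ^ p = 1) ?_ ⟨one_mem _, one_pow p⟩ ?_ ?_ hd).2
      · rintro _ ⟨a, ha, b, hb, rfl⟩
        refine ⟨F.comm_mem a ha b hb, ?_⟩
        have key : ∀ m : ℕ, ⁅a ^ m, b⁆ = ⁅a, b⁆ ^ m := by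
          intro m
          induction m with
          | zero => simp [commutatorElement_def]
          | succ m ih =>
            have hc : ⁅a ^ m, b⁆ * a = a * ⁅a ^ m, b⁆ := hcen _ (F.comm_mem _ (_root_.pow_mem ha m) b hb) a ha
            have e : ⁅a * a ^ m, b⁆ = a * ⁅a ^ m, b⁆ * a⁻¹ * ⁅a, b⁆ := by
              simp only [commutatorElement_def]; group
            rw [pow_succ' a, e, ← hc, mul_inv_cancel_right, ih, pow_succ]
        rw [← key, commutatorElement_eq_one_iff_mul_comm]
        exact hcen _ (F.pow_mem a ha) b hb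
      · rintro u v _ _ ⟨hu, hu'⟩ ⟨hv, hv'⟩
        refine ⟨mul_mem hu hv, ?_⟩
        rw [(show Commute u v from hcen u hu v (F.le hv)).mul_pow, hu', hv', one_mul]
      · rintro u _ ⟨hu, hu'⟩
        exact ⟨inv_mem hu, by rw [inv_pow, hu', inv_one]⟩ }

section pairing

variable {R : Type*} [CommRing R] {M N : Type*} [AddCommGroup M] [AddCommGroup N] [Module R M] [Module R N]

/-- A cubic and a quartic unipotent map give a sextic one on the homomorphisms. -/
theorem pairing_pow_six {f : Module.End R N} {g : Module.End R M} (hf : (f - 1) ^ 3 = 0)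
    (hg : (g - 1) ^ 4 = 0) (τ : Module.End R (M →ₗ[R] N)) (hτ : ∀ ψ, τ ψ = f ∘ₗ ψ ∘ₗ g - ψ) :
    τ ^ 6 = 0 := by
  let a : Module.End R (M →ₗ[R] N) := LinearMap.llcomp R M N N (f - 1)
  let b : Module.End R (M →ₗ[R] N) := LinearMap.lcomp R N (g - 1)
  have ha : ∀ k, ∀ ψ, (a ^ k) ψ = ((f - 1) ^ k) ∘ₗ ψ := by
    intro k
    induction k with
    | zero => intro ψ; rfl
    | succ k ih => intro ψ; rw [pow_succ', Module.End.mul_apply, ih, pow_succ']; rfl
  have hb : ∀ k, ∀ ψ, (b ^ k) ψ = ψ ∘ₗ ((g - 1) ^ k) := by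
    intro k
    induction k with
    | zero => intro ψ; rfl
    | succ k ih => intro ψ; rw [pow_succ', Module.End.mul_apply, ih, pow_succ]; rfl
  have ha3 : a ^ 3 = 0 := LinearMap.ext fun ψ => by rw [ha, hf]; rfl
  have hb4 : b ^ 4 = 0 := LinearMap.ext fun ψ => by rw [hb, hg]; exact LinearMap.comp_zero ψ
  have hab : Commute b a := LinearMap.ext fun ψ => by
    change (((f - 1) ∘ₗ ψ) ∘ₗ (g - 1)) = (f - 1) ∘ₗ (ψ ∘ₗ (g - 1))
    rw [LinearMap.comp_assoc]
  have hc : Commute b (1 + a) := (Commute.one_right b).add_right hab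
  have hτ' : τ = a + b * (1 + a) := by
    refine LinearMap.ext fun ψ => LinearMap.ext fun m => ?_
    rw [hτ]
    simp only [a, b, LinearMap.sub_apply, LinearMap.add_apply, LinearMap.coe_comp, Function.comp_apply,
      Module.End.mul_apply, Module.End.one_apply, LinearMap.llcomp_apply', LinearMap.lcomp_apply', map_sub,
      map_add]
    abel
  have hc4 : (b * (1 + a)) ^ 4 = 0 := by rw [hc.mul_pow, hb4, zero_mul]
  rw [hτ']
  exact Commute.add_pow_eq_zero_of_add_le_succ_of_pow_eq_zero
    (hab.symm.mul_right ((Commute.one_right a).add_right (Commute.refl a))) ha3 hc4 (by omega)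

end pairing

end Cfsg.Agent.H30.JCore
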