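import Cfsg.Agent.H30.JCore.Calc

/-!
The competitor: the commutators `[[x, A], A]` are covered by the commutators of `x`.
-/

set_option autoImplicit false
set_option linter.unusedSectionVars false

namespace Cfsg.Agent.H30.JCore

open Subgroup
open scoped commutatorElement

variable {p : ℕ} [hp : Fact p.Prime] {G : Type*} [Group G] [Finite G]
variable {P T A : Subgroup G}

namespace Sec

/-- The hypotheses on the element `x` of the section. -/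
structure KeyHyp (L : Sec p P) (A : Subgroup G) (x : L.Y) : Prop where
  hD : ∀ a ∈ A, ∀ b ∈ A, ∀ v, L.δ a (L.δ b v) = 0
  h1 : ∀ a ∈ A, ∀ b ∈ A, ∀ c ∈ A, L.β (L.t a (L.toV x)) (L.t b (L.t c (L.toV x))) = 0
  h2 : ∀ a ∈ A, ∀ b ∈ A, ∀ c ∈ A, L.β (L.toV x) (L.t a (L.t b (L.t c (L.toV x)))) = 0
  h4 : ∀ f : L.Y, (∀ a ∈ A, a * (f : G) = f * a) → ∀ a ∈ A, L.β (L.toV f) (L.t a (L.toV x)) = 0

variable {L : Sec p P} {x : L.Y}

/-- the commutator of `x` with `a` -/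
def cm (L : Sec p P) (x : L.Y) (a : G) : L.Y := L.da a x

/-- `[x, [x, a]]` -/
def Γ (L : Sec p P) (x : L.Y) (a : G) : Additive L.Dg := L.β (L.toV x) (L.t a (L.toV x))

theorem toV_cm (a : G) : L.toV (L.cm x a) = L.t a (L.toV x) := L.toV_da a x

theorem coe_cm (a : G) : (L.cm x a : G) = (x : G)⁻¹ * (a * x * a⁻¹) := rfl

theorem cm_mul (a b : G) : (L.cm x (a * b) : G) = L.cm x a * (a * L.cm x b * a⁻¹) := by
  simp only [coe_cm]; group

namespace KeyHyp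

variable (hk : L.KeyHyp A x)

include hk

theorem h1_sym {a b c : G} (ha : a ∈ A) (hb : b ∈ A) (hc : c ∈ A) :
    L.β (L.t b (L.t c (L.toV x))) (L.t a (L.toV x)) = 0 := by
  rw [L.β_skew, hk.h1 a ha b hb c hc, neg_zero]

theorem β_deg2 {a b c d : G} (ha : a ∈ A) (hb : b ∈ A) (hc : c ∈ A) (hd : d ∈ A) :
    L.β (L.t a (L.t b (L.toV x))) (L.t c (L.t d (L.toV x))) = 0 := by
  rw [L.t_t a b, map_sub, map_sub, LinearMap.sub_apply, LinearMap.sub_apply,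
    hk.h1 _ (mul_mem ha hb) c hc d hd, hk.h1 a ha c hc d hd, hk.h1 b hb c hc d hd, sub_zero, sub_zero]

theorem β_fixed_deg2 {f : L.Y} (hf : ∀ a ∈ A, a * (f : G) = f * a) {a b : G} (ha : a ∈ A) (hb : b ∈ A) :
    L.β (L.toV f) (L.t a (L.t b (L.toV x))) = 0 := by
  rw [L.t_t a b, map_sub, map_sub, hk.h4 f hf _ (mul_mem ha hb), hk.h4 f hf a ha, hk.h4 f hf b hb,
    sub_zero, sub_zero]

theorem δ_Γ {e a : G} (he : e ∈ A) (ha : a ∈ A) :
    L.δ e (L.Γ x a) = L.β (L.t e (L.toV x)) (L.t a (L.toV x)) +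
      L.β (L.toV x) (L.t e (L.t a (L.toV x))) := by
  rw [Sec.Γ, L.δ_form, hk.h1 e he e he a ha, add_zero]

theorem δ_Γ_skew (h : ∀ a ∈ A, ∀ b ∈ A, a * b = b * a) {e a : G} (he : e ∈ A) (ha : a ∈ A) :
    L.δ e (L.Γ x a) - L.δ a (L.Γ x e) =
      L.β (L.t e (L.toV x)) (L.t a (L.toV x)) + L.β (L.t e (L.toV x)) (L.t a (L.toV x)) := by
  rw [hk.δ_Γ he ha, hk.δ_Γ ha he, L.t_comm (h a ha e he),
    L.β_skew (L.t a (L.toV x)) (L.t e (L.toV x))]
  abel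

theorem δ_S {f e a : G} (hf : f ∈ A) (he : e ∈ A) (ha : a ∈ A) :
    L.δ f (L.β (L.toV x) (L.t e (L.t a (L.toV x)))) = 0 := by
  rw [L.δ_form, hk.h1 f hf e he a ha, hk.h2 f hf e he a ha, zero_add, zero_add, L.t_t e a,
    map_sub, map_sub, map_sub, map_sub, hk.h1 f hf f hf _ (mul_mem he ha), hk.h1 f hf f hf e he,
    hk.h1 f hf f hf a ha, sub_zero, sub_zero]

theorem δ_ω {f e a : G} (hf : f ∈ A) (he : e ∈ A) (ha : a ∈ A) :
    L.δ f (L.β (L.t e (L.toV x)) (L.t a (L.toV x))) = 0 := by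
  rw [L.δ_form, hk.h1_sym ha hf he, hk.h1 e he f hf a ha, hk.β_deg2 hf he hf ha, add_zero, add_zero]

theorem Γ_mul {a b : G} : L.Γ x (a * b) =
    L.Γ x a + L.Γ x b + L.β (L.toV x) (L.t a (L.t b (L.toV x))) := by
  simp only [Sec.Γ, L.t_mul, map_add]

theorem δ_Γ_mul {e a b : G} (he : e ∈ A) (ha : a ∈ A) (hb : b ∈ A) :
    L.δ e (L.Γ x (a * b)) = L.δ e (L.Γ x a) + L.δ e (L.Γ x b) := by
  rw [hk.Γ_mul, map_add, map_add, hk.δ_S he ha hb, add_zero]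

/-- the elements with fixed `Γ` -/
def A1 : Subgroup G where
  carrier := {a | a ∈ A ∧ ∀ e ∈ A, L.δ e (L.Γ x a) = 0}
  one_mem' := ⟨one_mem _, fun e _ => by rw [Sec.Γ, L.t_one, map_zero, map_zero]⟩
  mul_mem' := fun {a b} ha hb =>
    ⟨mul_mem ha.1 hb.1, fun e he => by rw [hk.δ_Γ_mul he ha.1 hb.1, ha.2 e he, hb.2 e he, add_zero]⟩
  inv_mem' := fun {a} ha => ⟨inv_mem ha.1, fun e he => by
    have h0 := hk.δ_Γ_mul he ha.1 (inv_mem ha.1)
    rw [mul_inv_cancel, ha.2 e he, zero_add, Sec.Γ, L.t_one, map_zero, map_zero] at h0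
    exact h0.symm⟩

theorem mem_A1 {a : G} : a ∈ hk.A1 ↔ a ∈ A ∧ ∀ e ∈ A, L.δ e (L.Γ x a) = 0 := Iff.rfl

variable (h : MinOutside p P T A)

include h

theorem fixed_mem {f : L.Y} (hf : ∀ a ∈ A, a * (f : G) = f * a) : (f : G) ∈ A :=
  h.mem_of_fixed (h.Ple (L.leP f.2)) hf

theorem ι_mem {v : Additive L.Dg} (hv : ∀ e ∈ A, L.δ e v = 0) : (L.ι v : G) ∈ A :=
  hk.fixed_mem h fun a ha => L.commute_of_δ (hv a ha)

theorem conj_cm {a b e : G} (ha : a ∈ A) (he : e ∈ A)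
    (hv : (L.cm x a : G) * L.ι (L.Γ x b) ∈ A) :
    a * (L.cm x e : G) * a⁻¹ = (L.cm x e : G) * L.ι (-(L.δ e (L.Γ x b))) := by
  set v : L.Y := L.cm x a * L.ι (L.Γ x b) with hvdef
  have hvA : (v : G) ∈ A := hv
  have hfix : ∀ g ∈ A, g * (v : G) = v * g := fun g hg => h.comm g hg _ hvA
  have hve : (v : G) * L.cm x e = L.cm x e * v := L.commute_of_β (by
    rw [L.toV_cm]; exact hk.h4 v hfix e he)
  have e0 : (L.cm x a : G) = v * ((L.ι (L.Γ x b) : G))⁻¹ := by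
    rw [hvdef, Subgroup.coe_mul, mul_inv_cancel_right]
  have e1 : e * (L.cm x a : G) * e⁻¹ = v * ((L.ι (L.ρD e (L.Γ x b)) : G))⁻¹ := by
    rw [e0, show e * ((v : G) * (L.ι (L.Γ x b) : G)⁻¹) * e⁻¹ =
      (e * v * e⁻¹) * (e * (L.ι (L.Γ x b) : G) * e⁻¹)⁻¹ by group, hfix e he, mul_inv_cancel_right,
      L.conj_ι]
  have e2 : (L.cm x a : G) * (a * L.cm x e * a⁻¹) = L.cm x e * (e * L.cm x a * e⁻¹) := by
    rw [← L.cm_mul, ← L.cm_mul, h.comm a ha e he]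
  have e3 : a * (L.cm x e : G) * a⁻¹ =
      (L.ι (L.Γ x b) : G) * ((L.cm x e : G) * ((L.ι (L.ρD e (L.Γ x b)) : G))⁻¹) := by
    have : a * (L.cm x e : G) * a⁻¹ = ((L.cm x a : G))⁻¹ * ((L.cm x e : G) * (e * L.cm x a * e⁻¹)) := by
      rw [← e2, inv_mul_cancel_left]
    rw [this, e1, e0, mul_inv_rev, inv_inv, ← mul_assoc (L.cm x e : G), ← hve]
    group
  rw [e3, ← mul_assoc, L.ι_comm _ (L.cm x e).2, mul_assoc, ← Subgroup.coe_inv, ← Subgroup.coe_mul,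
    ← L.ι_neg, ← L.ι_add, δ, LinearMap.sub_apply, Module.End.one_apply]
  congr 3
  abel

/-- The main consequence: commutators of length two are commutators of `x` up to `D` and `A`. -/
theorem exists_cm (hp5 : 5 ≤ p) {a b : G} (ha : a ∈ A) (hb : b ∈ A) :
    ∃ c ∈ A, ∃ d ∈ A, ((L.cm x c : G) * L.ι (L.Γ x d))⁻¹ * (L.da b (L.cm x a) : G) ∈ A := by
  classical
  set 𝒢 : Set L.Y := {y | (∃ e ∈ hk.A1, y = L.cm x e) ∨ (∃ d ∈ A, y = L.ι (L.Γ x d)) ∨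
    (∀ g ∈ A, g * (y : G) = y * g) ∨ ∃ f ∈ A, ∃ d ∈ A, y = L.da f (L.cm x d)} with h𝒢
  have hpair : ∀ y ∈ 𝒢, ∀ y' ∈ 𝒢, L.β (L.toV y) (L.toV y') = 0 := by
    intro y hy y' hy'
    rcases hy with ⟨e, he, rfl⟩ | ⟨d, hd, rfl⟩ | hf | ⟨f, hf, d, hd, rfl⟩
    · rcases hy' with ⟨e', he', rfl⟩ | ⟨d', hd', rfl⟩ | hf' | ⟨f', hf', d', hd', rfl⟩
      · rw [L.toV_cm, L.toV_cm]
        have h0 := hk.δ_Γ_skew h.comm he.1 he'.1
        rw [he'.2 e he.1, he.2 e' he'.1, sub_zero, eq_comm] at h0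
        exact eq_zero_of_eq_neg hp5 (eq_neg_of_add_eq_zero_left h0)
      · rw [L.toV_ι, map_zero]
      · rw [L.toV_cm, L.β_skew, hk.h4 y' hf' e he.1, neg_zero]
      · rw [L.toV_cm, L.toV_da, L.toV_cm]; exact hk.h1 e he.1 f' hf' d' hd'
    · rw [L.toV_ι, map_zero, LinearMap.zero_apply]
    · rcases hy' with ⟨e', he', rfl⟩ | ⟨d', hd', rfl⟩ | hf' | ⟨f', hf', d', hd', rfl⟩
      · rw [L.toV_cm]; exact hk.h4 y hf e' he'.1
      · rw [L.toV_ι, map_zero]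
      · exact L.β_eq_zero_of_commute (h.comm _ (hk.fixed_mem h hf) _ (hk.fixed_mem h hf'))
      · rw [L.toV_da, L.toV_cm]; exact hk.β_fixed_deg2 hf hf' hd'
    · rcases hy' with ⟨e', he', rfl⟩ | ⟨d', hd', rfl⟩ | hf' | ⟨f', hf', d', hd', rfl⟩
      · rw [L.toV_da, L.toV_cm, L.toV_cm]; exact hk.h1_sym he'.1 hf hd
      · rw [L.toV_ι, map_zero]
      · rw [L.toV_da, L.toV_cm, L.β_skew, hk.β_fixed_deg2 hf' hf hd, neg_zero]
      · rw [L.toV_da, L.toV_cm, L.toV_da, L.toV_cm]; exact hk.β_deg2 hf hd hf' hd'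
  set g0 : Set G := (fun y : L.Y => (y : G)) '' 𝒢 with hg0
  have hg0c : ∀ u ∈ g0, ∀ v ∈ g0, u * v = v * u := by
    rintro _ ⟨y, hy, rfl⟩ _ ⟨y', hy', rfl⟩
    exact L.commute_of_β (hpair y hy y' hy')
  set N0 := closure g0 with hN0
  have hN0Y : N0 ≤ L.Y := (closure_le _).mpr (by rintro _ ⟨y, -, rfl⟩; exact y.2)
  have hmem : ∀ y ∈ 𝒢, (y : G) ∈ N0 := fun y hy => subset_closure ⟨y, hy, rfl⟩
  have hcmN : ∀ e ∈ hk.A1, (L.cm x e : G) ∈ N0 := fun e he => hmem _ (Or.inl ⟨e, he, rfl⟩)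
  have hΓN : ∀ d ∈ A, (L.ι (L.Γ x d) : G) ∈ N0 := fun d hd => hmem _ (Or.inr (Or.inl ⟨d, hd, rfl⟩))
  set AY := A ⊓ L.Y with hAY
  have hAYN : AY ≤ N0 := fun f hf => hmem ⟨f, (Subgroup.mem_inf.mp hf).2⟩
    (Or.inr (Or.inr (Or.inl fun g hg => h.comm g hg f (Subgroup.mem_inf.mp hf).1)))
  -- the map
  let A1' : Subgroup A := hk.A1.subgroupOf A
  let qN := N0 ⧸ AY.subgroupOf N0
  let Θ : hk.A1 × (A ⧸ A1') → qN := fun eq =>
    ((⟨(L.cm x (eq.1 : G) : G) * (L.ι (L.Γ x ((eq.2.out : A) : G)) : G),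
      N0.mul_mem (hcmN _ eq.1.2) (hΓN _ (eq.2.out).2)⟩ : N0) : qN)
  let Kp : Set G := {c | c ∈ A ∧ ∃ d ∈ A, (L.cm x c : G) * L.ι (L.Γ x d) ∈ A}
  have hfib : ∀ s s' : hk.A1 × (A ⧸ A1'), Θ s = Θ s' →
      ((L.cm x (s.1 : G) : G) * L.ι (L.Γ x (s.2.out : G)))⁻¹ *
        ((L.cm x (s'.1 : G) : G) * L.ι (L.Γ x (s'.2.out : G))) ∈ A := fun s s' hs =>
    (Subgroup.mem_inf.mp (mem_subgroupOf.mp (QuotientGroup.eq.mp hs))).1
  have hKp : ∀ s s' : hk.A1 × (A ⧸ A1'), Θ s = Θ s' → (s.1 : G)⁻¹ * s'.1 ∈ Kp := by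
    intro s s' hs
    have hu := hfib s s' hs
    set e0 : G := (s.1 : G) with he0
    set b0 : G := ((s.2.out : A) : G) with hb0
    set b1 : G := ((s'.2.out : A) : G) with hb1
    have he0A : e0 ∈ A := s.1.2.1
    set e'' : G := e0⁻¹ * (s'.1 : G) with he''
    have he''A : e'' ∈ A := mul_mem (inv_mem he0A) s'.1.2.1
    have hb0A : b0 ∈ A := (s.2.out).2
    have hb1A : b1 ∈ A := (s'.2.out).2
    set d := b0⁻¹ * b1 with hd
    have hdA : d ∈ A := mul_mem (inv_mem hb0A) hb1A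
    refine ⟨he''A, d, hdA, ?_⟩
    set u := ((L.cm x e0 : G) * L.ι (L.Γ x b0))⁻¹ * ((L.cm x (s'.1 : G) : G) * L.ι (L.Γ x b1)) with hudef
    have hcm : (L.cm x (s'.1 : G) : G) = L.cm x e0 * (e0 * L.cm x e'' * e0⁻¹) := by
      rw [← L.cm_mul, he'', mul_inv_cancel_left]
    have hu1 : u = e0 * (L.cm x e'' : G) * e0⁻¹ * L.ι (L.Γ x b1 - L.Γ x b0) := by
      rw [hudef, hcm, sub_eq_add_neg, add_comm, L.ι_add, L.ι_neg, Subgroup.coe_mul,
        Subgroup.coe_inv, mul_inv_rev]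
      have hz : ∀ y : G, y ∈ L.Y → (L.ι (L.Γ x b0) : G)⁻¹ * y = y * (L.ι (L.Γ x b0) : G)⁻¹ := fun y hy => by
        rw [inv_mul_eq_iff_eq_mul, ← mul_assoc, L.ι_comm _ hy, mul_inv_cancel_right]
      rw [mul_assoc _ ((L.cm x e0 : G))⁻¹, ← mul_assoc ((L.cm x e0 : G))⁻¹, ← mul_assoc ((L.cm x e0 : G))⁻¹,
        inv_mul_cancel, one_mul, ← mul_assoc, hz _ (L.normalY.conj_mem _ (L.cm x e'').2 e0), mul_assoc]
    set z := L.δ e0⁻¹ (L.Γ x b1 - L.Γ x b0) with hz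
    have hu2 : u = (L.cm x e'' : G) * ((L.ι (L.Γ x b1 - L.Γ x b0) : G) * L.ι z) := by
      have hcomm := h.comm e0⁻¹ (inv_mem he0A) u hu
      calc u = e0⁻¹ * u * e0 := by rw [hcomm, inv_mul_cancel_right]
        _ = (L.cm x e'' : G) * (e0⁻¹ * (L.ι (L.Γ x b1 - L.Γ x b0) : G) * (e0⁻¹)⁻¹) := by
            rw [hu1]; group
        _ = _ := by rw [L.conj_ι']
    have hzfix : ∀ g ∈ A, L.δ g z = 0 := fun g hg => hk.hD g hg _ (inv_mem he0A) _
    have hdiff : L.Γ x b1 - L.Γ x b0 =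
        L.Γ x d + L.β (L.toV x) (L.t b0 (L.t d (L.toV x))) := by
      have e := hk.Γ_mul (a := b0) (b := d)
      rw [hd, mul_inv_cancel_left] at e
      rw [e, ← hd]; abel
    rw [hdiff, L.ι_add, Subgroup.coe_mul] at hu2
    have hS : (L.ι (L.β (L.toV x) (L.t b0 (L.t d (L.toV x)))) : G) ∈ A :=
      hk.ι_mem h fun g hg => hk.δ_S hg hb0A hdA
    have : u = ((L.cm x e'' : G) * L.ι (L.Γ x d)) *
        ((L.ι (L.β (L.toV x) (L.t b0 (L.t d (L.toV x)))) : G) * L.ι z) := by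
      rw [hu2]; simp only [mul_assoc]
    rw [this] at hu
    exact (mul_mem_cancel_right (mul_mem hS (hk.ι_mem h hzfix))).mp hu
  -- the competitor
  have hchoose : ∀ c : Kp, ∃ d ∈ A, (L.cm x (c : G) : G) * L.ι (L.Γ x d) ∈ A := fun c => c.2.2
  choose bb hbb hbbA using hchoose
  let hh : Kp → G := fun c => (c : G) * ((L.cm x (bb c) * L.cm x (bb c) : L.Y) : G)⁻¹
  have hμV : ∀ d, L.toV (L.cm x d * L.cm x d)⁻¹ = -(L.t d (L.toV x) + L.t d (L.toV x)) := fun d => by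
    rw [L.toV_inv, L.toV_mul, L.toV_cm]
  have hvec : ∀ c : Kp, L.t (c : G) (L.toV x) = L.toV (L.cm x (c : G) * L.ι (L.Γ x (bb c))) := fun c => by
    rw [L.toV_mul, L.toV_cm, L.toV_ι, add_zero]
  have hKA1 : ∀ c : Kp, (c : G) ∈ hk.A1 := by
    intro c
    refine ⟨c.2.1, fun e he => ?_⟩
    rw [hk.δ_Γ he c.2.1]
    have hfix : ∀ g ∈ A, g * ((L.cm x (c : G) * L.ι (L.Γ x (bb c)) : L.Y) : G) =
        ((L.cm x (c : G) * L.ι (L.Γ x (bb c)) : L.Y) : G) * g := fun g hg => h.comm g hg _ (hbbA c)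
    rw [L.β_skew, hvec, hk.h4 _ hfix e he, neg_zero, zero_add, ← L.toV_da]
    have hda : L.da e (L.cm x (c : G) * L.ι (L.Γ x (bb c))) = 1 := by
      apply Subtype.ext
      rw [L.coe_da, hfix e he, mul_inv_cancel_right, inv_mul_cancel]; rfl
    rw [hda, L.toV_one, map_zero]
  have hhcm : ∀ (c : Kp) (e : G), e ∈ A → hh c * (L.cm x e : G) * (hh c)⁻¹ = (L.cm x e : G) *
      L.ι ((L.β (L.t e (L.toV x)) (L.t (bb c) (L.toV x)) + L.β (L.t e (L.toV x)) (L.t (bb c) (L.toV x)))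
        - L.δ e (L.Γ x (bb c))) := by
    intro c e he
    set w := L.β (L.t e (L.toV x)) (L.t (bb c) (L.toV x)) + L.β (L.t e (L.toV x)) (L.t (bb c) (L.toV x))
      with hw
    have e1 : (((L.cm x (bb c) * L.cm x (bb c) : L.Y) : G))⁻¹ * (L.cm x e : G) *
        ((L.cm x (bb c) * L.cm x (bb c) : L.Y) : G) = (L.cm x e : G) * L.ι w := by
      rw [L.conj_eq_mul_β, L.toV_mul, L.toV_cm, L.toV_cm, map_add]
    calc hh c * (L.cm x e : G) * (hh c)⁻¹
        = (c : G) * ((((L.cm x (bb c) * L.cm x (bb c) : L.Y) : G))⁻¹ * (L.cm x e : G) *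
            ((L.cm x (bb c) * L.cm x (bb c) : L.Y) : G)) * (c : G)⁻¹ := by simp only [hh]; group
      _ = ((c : G) * (L.cm x e : G) * (c : G)⁻¹) * ((c : G) * (L.ι w : G) * (c : G)⁻¹) := by
          rw [e1]; group
      _ = _ := by
          rw [hk.conj_cm h c.2.1 he (hbbA c), L.conj_ι' (c : G) w,
            show L.δ (c : G) w = 0 by rw [hw, map_add, hk.δ_ω c.2.1 he (hbb c), add_zero],
            L.ι_zero, Subgroup.coe_one, mul_one, mul_assoc, ← Subgroup.coe_mul, ← L.ι_add,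
            neg_add_eq_sub]
  have hμcomm : ∀ (d : G) (y : L.Y), L.β (L.toV y) (L.t d (L.toV x)) = 0 →
      (((L.cm x d * L.cm x d : L.Y) : G))⁻¹ * (y : G) = (y : G) * (((L.cm x d * L.cm x d : L.Y) : G))⁻¹ := by
    intro d y h0
    rw [← Subgroup.coe_inv]
    refine L.commute_of_β ?_
    rw [hμV, map_neg, LinearMap.neg_apply, map_add, LinearMap.add_apply, L.β_skew, h0, neg_zero,
      add_zero, neg_zero]
  have hhG : ∀ (c : Kp), ∀ y ∈ 𝒢, hh c * (y : G) = y * hh c := by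
    intro c y hy
    have hdec : ∀ (z : L.Y), L.β (L.toV z) (L.t (bb c) (L.toV x)) = 0 → (c : G) * (z : G) = z * (c : G) →
        hh c * (z : G) = z * hh c := fun z h0 h1 => by
      simp only [hh]
      rw [mul_assoc, hμcomm _ z h0, ← mul_assoc, h1, mul_assoc]
    rcases hy with ⟨e, he, rfl⟩ | ⟨d, hd, rfl⟩ | hf | ⟨f, hf, d, hd, rfl⟩
    · have h1 := hhcm c e he.1
      have h0 := hk.δ_Γ_skew h.comm he.1 (hbb c)
      rw [he.2 (bb c) (hbb c), sub_zero] at h0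
      rw [← h0, sub_self, L.ι_zero, Subgroup.coe_one, mul_one, mul_inv_eq_iff_eq_mul] at h1
      exact h1
    · refine hdec _ (by rw [L.toV_ι, map_zero, LinearMap.zero_apply]) (L.commute_of_δ ?_)
      have h0 := hk.δ_Γ_skew h.comm c.2.1 hd
      rw [(hKA1 c).2 d hd, sub_zero] at h0
      rw [h0]
      have hfix : ∀ g ∈ A, g * ((L.cm x (c : G) * L.ι (L.Γ x (bb c)) : L.Y) : G) =
          ((L.cm x (c : G) * L.ι (L.Γ x (bb c)) : L.Y) : G) * g := fun g hg => h.comm g hg _ (hbbA c)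
      rw [hvec, hk.h4 _ hfix d hd, add_zero]
    · exact hdec _ (hk.h4 y hf _ (hbb c)) (hf _ c.2.1)
    · refine hdec _ (by rw [L.toV_da, L.toV_cm]; exact hk.h1_sym (hbb c) hf hd) ?_
      rw [← mul_inv_eq_iff_eq_mul]
      set σ := -(L.δ d (L.Γ x (bb c))) with hσ
      have hσ2 : L.δ f σ = 0 := by rw [hσ, map_neg, hk.hD f hf d hd, neg_zero]
      have e1 := hk.conj_cm h c.2.1 hd (hbbA c)
      rw [← hσ] at e1
      calc (c : G) * (L.da f (L.cm x d) : G) * (c : G)⁻¹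
          = ((c : G) * (L.cm x d : G) * (c : G)⁻¹)⁻¹ *
              (((c : G) * f) * (L.cm x d : G) * ((c : G) * f)⁻¹) := by rw [L.coe_da]; group
        _ = ((c : G) * (L.cm x d : G) * (c : G)⁻¹)⁻¹ *
              (f * ((c : G) * (L.cm x d : G) * (c : G)⁻¹) * f⁻¹) := by
            rw [h.comm _ c.2.1 f hf]; group
        _ = ((L.ι σ : G))⁻¹ * ((L.da f (L.cm x d) : G) * (f * (L.ι σ : G) * f⁻¹)) := by
            rw [e1, L.coe_da]; group
        _ = _ := by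
            rw [L.commute_of_δ hσ2, mul_inv_cancel_right, ← L.ι_comm _ (L.da f (L.cm x d)).2,
              inv_mul_cancel_left]
  have hhh : ∀ c c' : Kp, hh c' * hh c = hh c * hh c' := by
    intro c c'
    set b := bb c with hb
    set b' := bb c' with hb'
    set σ := -(L.δ b' (L.Γ x b)) with hσ
    set z := L.β (L.t b (L.toV x)) (L.t b' (L.toV x)) + L.β (L.t b (L.toV x)) (L.t b' (L.toV x))
      - L.δ b (L.Γ x b') with hz
    have e1 := hk.conj_cm h c.2.1 (hbb c') (hbbA c)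
    rw [← hb', ← hb, ← hσ] at e1
    have e2 := hhcm c' b (hbb c)
    rw [← hb', ← hz] at e2
    have hσ0 : ∀ g ∈ A, L.δ g σ = 0 := fun g hg => by rw [hσ, map_neg, hk.hD g hg _ (hbb c'), neg_zero]
    have hσfix : ∀ g ∈ A, g * (L.ι σ : G) = L.ι σ * g := fun g hg => L.commute_of_δ (hσ0 g hg)
    have hσY : ∀ y : L.Y, (L.ι σ : G) * y = y * L.ι σ := fun y => L.ι_comm _ y.2
    have hzσ : z = σ := by
      have h0 := hk.δ_Γ_skew h.comm (hbb c) (hbb c')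
      rw [hz, hσ, ← hb, ← hb'] at *
      rw [← h0]; abel
    rw [hzσ] at e2
    have he : ((L.cm x b' : G))⁻¹ * (c : G) * L.cm x b' = (c : G) * L.ι σ := by
      rw [mul_assoc, inv_mul_eq_iff_eq_mul]
      rw [mul_inv_eq_iff_eq_mul] at e1
      rw [e1, mul_assoc, ← hσfix _ c.2.1]
    have ha : hh c' * (c : G) * (hh c')⁻¹ = (c : G) * ((L.ι σ : G) * L.ι σ) := by
      calc hh c' * (c : G) * (hh c')⁻¹
          = (c' : G) * (((L.cm x b' : G))⁻¹ * (((L.cm x b' : G))⁻¹ * (c : G) * L.cm x b') * L.cm x b')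
              * (c' : G)⁻¹ := by simp only [hh, Subgroup.coe_mul, ← hb', mul_inv_rev, inv_inv, mul_assoc]
        _ = (c' : G) * ((c : G) * ((L.ι σ : G) * L.ι σ)) * (c' : G)⁻¹ := by
            rw [he, ← mul_assoc _ (c : G), mul_assoc _ (L.ι σ : G), hσY, ← mul_assoc (((L.cm x b' : G))⁻¹ * (c : G)), he, mul_assoc (c : G)]
        _ = ((c' : G) * c) * ((L.ι σ : G) * L.ι σ) * (c' : G)⁻¹ := by group
        _ = _ := by
            rw [h.comm _ c'.2.1 _ c.2.1]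
            have hc' : (c' : G) * ((L.ι σ : G) * L.ι σ) = (L.ι σ : G) * L.ι σ * (c' : G) := by
              rw [← mul_assoc, hσfix _ c'.2.1, mul_assoc, hσfix _ c'.2.1, ← mul_assoc]
            rw [mul_assoc (c : G), hc', ← mul_assoc (c : G), mul_inv_cancel_right]
    rw [← mul_inv_eq_iff_eq_mul]
    calc hh c' * hh c * (hh c')⁻¹
        = (hh c' * (c : G) * (hh c')⁻¹) * (hh c' * (L.cm x b : G) * (hh c')⁻¹ *
            (hh c' * (L.cm x b : G) * (hh c')⁻¹))⁻¹ := by simp only [hh, Subgroup.coe_mul, ← hb]; group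
      _ = (c : G) * ((L.ι σ : G) * L.ι σ) * ((L.cm x b : G) * L.ι σ * ((L.cm x b : G) * L.ι σ))⁻¹ := by
          rw [ha, e2]
      _ = (c : G) * ((L.ι σ : G) * L.ι σ) * (((L.cm x b : G) * L.cm x b) * ((L.ι σ : G) * L.ι σ))⁻¹ := by
          rw [mul_assoc (L.cm x b : G) (L.ι σ : G), ← mul_assoc (L.ι σ : G) (L.cm x b : G), hσY (L.cm x b),
            mul_assoc (L.cm x b : G) (L.ι σ : G) (L.ι σ : G), ← mul_assoc (L.cm x b : G) (L.cm x b : G)]
      _ = hh c := by simp only [hh, Subgroup.coe_mul, ← hb]; group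
  set X := closure (g0 ∪ Set.range hh) with hX
  have hXc : ∀ u ∈ X, ∀ v ∈ X, u * v = v * u := comm_closure (by
    rintro u (hu | ⟨c, rfl⟩) v (hv | ⟨c', rfl⟩)
    · exact hg0c u hu v hv
    · obtain ⟨y, hy, rfl⟩ := hu; exact (hhG c' y hy).symm
    · obtain ⟨y, hy, rfl⟩ := hv; exact hhG c y hy
    · exact hhh c' c)
  have hN0X : N0 ≤ X := closure_mono Set.subset_union_left
  have hhX : ∀ c, hh c ∈ X := fun c => subset_closure (Or.inr ⟨c, rfl⟩)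
  have hXT : X ≤ T := by
    rw [hX, closure_le]
    rintro u (⟨y, -, rfl⟩ | ⟨c, rfl⟩)
    · exact h.Ple (L.leP y.2)
    · exact mul_mem (h.le c.2.1) (inv_mem (h.Ple (L.leP (L.cm x (bb c) * L.cm x (bb c)).2)))
  have hXA : Nat.card X ≤ Nat.card A := h.max X hXT hXc
  let qX := X ⧸ N0.subgroupOf X
  let ψ : Kp → qX := fun c => ((⟨hh c, hhX c⟩ : X) : qX)
  have hψ : ∀ c c', ψ c = ψ c' → (c : G)⁻¹ * (c' : G) ∈ AY := by
    intro c c' hc
    refine Subgroup.mem_inf.mpr ⟨mul_mem (inv_mem c.2.1) c'.2.1, ?_⟩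
    have h1 : (hh c)⁻¹ * hh c' ∈ L.Y := hN0Y (mem_subgroupOf.mp (QuotientGroup.eq.mp hc))
    have h2 := L.Y.mul_mem (L.Y.mul_mem (L.Y.inv_mem (L.cm x (bb c) * L.cm x (bb c)).2) h1)
      (L.cm x (bb c') * L.cm x (bb c')).2
    simpa [hh, mul_assoc] using h2
  have hcKp : Nat.card Kp ≤ Nat.card qX * Nat.card AY := by
    by_cases hne : Nonempty Kp
    · obtain ⟨c0⟩ := hne
      have : Nonempty Kp := ⟨c0⟩
      let sel : qX → Kp := Function.invFun ψ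
      have hsel : ∀ c, ψ (sel (ψ c)) = ψ c := fun c => Function.invFun_eq ⟨c, rfl⟩
      rw [← Nat.card_prod]
      refine Nat.card_le_card_of_injective
        (fun c => (ψ c, (⟨((sel (ψ c) : Kp) : G)⁻¹ * c, hψ _ _ (hsel c)⟩ : AY))) fun c c' hcc => ?_
      simp only [Prod.mk.injEq, Subtype.mk.injEq] at hcc
      rw [hcc.1] at hcc
      exact Subtype.ext (mul_left_cancel hcc.2)
    · rw [not_nonempty_iff] at hne
      simp
  have : Nonempty (hk.A1 × (A ⧸ A1')) := ⟨(1, ((1 : A) : A ⧸ A1'))⟩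
  let selΘ : qN → hk.A1 × (A ⧸ A1') := Function.invFun Θ
  have hselΘ : ∀ s, Θ (selΘ (Θ s)) = Θ s := fun s => Function.invFun_eq ⟨s, rfl⟩
  have hA1A : hk.A1 ≤ A := fun e he => he.1
  have hcA : Nat.card A ≤ Nat.card (Set.range Θ) * Nat.card Kp := by
    rw [Subgroup.card_eq_card_quotient_mul_card_subgroup A1',
      Nat.card_congr (subgroupOfEquivOfLe hA1A).toEquiv, mul_comm, ← Nat.card_prod, ← Nat.card_prod]
    refine Nat.card_le_card_of_injective (fun s => ((⟨Θ s, s, rfl⟩ : Set.range Θ),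
      (⟨((selΘ (Θ s)).1 : G)⁻¹ * (s.1 : G), hKp _ _ (hselΘ s)⟩ : Kp))) fun s s' hss => ?_
    simp only [Prod.mk.injEq, Subtype.mk.injEq] at hss
    obtain ⟨hΘ0, h1⟩ := hss
    have hΘ : Θ s = Θ s' := congrArg Subtype.val hΘ0
    rw [hΘ] at h1
    have he : s.1 = s'.1 := Subtype.ext (mul_left_cancel h1)
    refine Prod.ext he ?_
    set b1 : G := ((s.2.out : A) : G) with hb1
    set b2 : G := ((s'.2.out : A) : G) with hb2
    have hb1A : b1 ∈ A := (s.2.out).2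
    have hb2A : b2 ∈ A := (s'.2.out).2
    have hu := hfib s s' hΘ
    rw [← he, mul_inv_rev, mul_assoc, inv_mul_cancel_left, ← hb1, ← hb2, ← Subgroup.coe_inv,
      ← L.ι_neg, ← Subgroup.coe_mul, ← L.ι_add] at hu
    have hd0 : ∀ e ∈ A, L.δ e (-(L.Γ x b1) + L.Γ x b2) = 0 := fun e he' =>
      L.δ_eq_zero_of_commute (h.comm e he' _ hu)
    have hbA1 : b1⁻¹ * b2 ∈ hk.A1 := by
      refine ⟨mul_mem (inv_mem hb1A) hb2A, fun e he' => ?_⟩
      have h0 := hk.δ_Γ_mul he' hb1A (mul_mem (inv_mem hb1A) hb2A)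
      rw [mul_inv_cancel_left] at h0
      have h00 := hd0 e he'
      rw [map_add, map_neg, h0, neg_add_cancel_left] at h00
      exact h00
    rw [← s.2.out_eq, ← s'.2.out_eq]
    exact QuotientGroup.eq.mpr (mem_subgroupOf.mpr (show ((s.2.out⁻¹ * s'.2.out : A) : G) ∈ hk.A1 from hbA1))
  have hX' : Nat.card X = Nat.card qX * (Nat.card qN * Nat.card AY) := by
    rw [Subgroup.card_eq_card_quotient_mul_card_subgroup (N0.subgroupOf X),
      Nat.card_congr (subgroupOfEquivOfLe hN0X).toEquiv,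
      Subgroup.card_eq_card_quotient_mul_card_subgroup (AY.subgroupOf N0),
      Nat.card_congr (subgroupOfEquivOfLe hAYN).toEquiv]
  have hfull : Nat.card qN ≤ Nat.card (Set.range Θ) := by
    refine Nat.le_of_mul_le_mul_right ?_ (Nat.mul_pos (Nat.card_pos (α := qX)) (Nat.card_pos (α := AY)))
    calc Nat.card qN * (Nat.card qX * Nat.card AY) = Nat.card X := by rw [hX']; ring
      _ ≤ Nat.card A := hXA
      _ ≤ Nat.card (Set.range Θ) * Nat.card Kp := hcA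
      _ ≤ _ := Nat.mul_le_mul_left _ hcKp
  have huniv : Set.range Θ = Set.univ := by
    refine Set.eq_of_subset_of_ncard_le (Set.subset_univ _) ?_
    rw [Set.ncard_univ, ← Nat.card_coe_set_eq]
    exact hfull
  have hwN : (L.da b (L.cm x a) : G) ∈ N0 := hmem _ (Or.inr (Or.inr (Or.inr ⟨b, hb, a, ha, rfl⟩)))
  obtain ⟨s, hs⟩ := Set.eq_univ_iff_forall.mp huniv ((⟨_, hwN⟩ : N0) : qN)
  exact ⟨s.1, s.1.2.1, s.2.out, (s.2.out).2,
    (Subgroup.mem_inf.mp (mem_subgroupOf.mp (QuotientGroup.eq.mp hs))).1⟩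

end KeyHyp

end Sec

end Cfsg.Agent.H30.JCore
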