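import Cfsg.Agent.H30.JCore.LinAlg
import Cfsg.Agent.H30.JCore.Rep

/-!
For `p ≥ 5`, an abelian `p`-subgroup of largest order cannot act fixed-point-freely modulo `P` on a
`p'`-subgroup acting faithfully on the normal `p`-subgroup `P`.
-/

set_option autoImplicit false

namespace Cfsg.Agent.H30.JCore

open Subgroup
open scoped commutatorElement

variable {p : ℕ} [hp : Fact p.Prime] {G : Type*} [Group G] [Finite G]

omit hp in
/-- `|A| |B| ≤ |A ⊔ B| |A ⊓ B|`. -/
theorem card_mul_card_le (A B : Subgroup G) :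
    Nat.card A * Nat.card B ≤ Nat.card ↥(A ⊔ B) * Nat.card ↥(A ⊓ B) := by
  have h1 := Subgroup.relIndex_mul_relIndex (⊥ : Subgroup G) A (A ⊔ B) bot_le le_sup_left
  have h2 := Subgroup.relIndex_mul_relIndex (⊥ : Subgroup G) (A ⊓ B) B bot_le inf_le_right
  rw [relIndex_bot_left, relIndex_bot_left] at h1 h2
  rw [inf_relIndex_right] at h2
  rw [← h1, ← h2]
  have hmono : A.relIndex B ≤ A.relIndex (A ⊔ B) :=
    relIndex_le_of_le_right le_sup_right index_ne_zero_of_finite
  calc Nat.card A * (Nat.card ↥(A ⊓ B) * A.relIndex B)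
      = Nat.card A * A.relIndex B * Nat.card ↥(A ⊓ B) := by ring
    _ ≤ Nat.card A * A.relIndex (A ⊔ B) * Nat.card ↥(A ⊓ B) :=
        Nat.mul_le_mul_right _ (Nat.mul_le_mul_left _ hmono)

omit hp in
omit [Finite G] in
theorem comm_sup {A B : Subgroup G} (hA : ∀ a ∈ A, ∀ b ∈ A, a * b = b * a)
    (hB : ∀ a ∈ B, ∀ b ∈ B, a * b = b * a) (hAB : ∀ a ∈ A, ∀ b ∈ B, a * b = b * a) :
    ∀ a ∈ A ⊔ B, ∀ b ∈ A ⊔ B, a * b = b * a := by
  have h1 : A ⊔ B ≤ centralizer (A : Set G) :=
    sup_le (fun a ha => mem_centralizer_iff.mpr fun x hx => hA x hx a ha)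
      (fun b hb => mem_centralizer_iff.mpr fun x hx => hAB x hx b hb)
  have h2 : A ⊔ B ≤ centralizer (B : Set G) :=
    sup_le (fun a ha => mem_centralizer_iff.mpr fun x hx => (hAB a ha x hx).symm)
      (fun b hb => mem_centralizer_iff.mpr fun x hx => hB x hx b hb)
  have h3 : A ⊔ B ≤ centralizer ((A ⊔ B : Subgroup G) : Set G) :=
    le_centralizer_iff.mp (sup_le (le_centralizer_iff.mp h1) (le_centralizer_iff.mp h2))
  exact fun a ha b hb => (mem_centralizer_iff.mp (h3 ha) b hb).symm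

/-- The core of the argument. -/
theorem false_of_fpf (hp5 : 5 ≤ p) {P A Q : Subgroup G} [P.Normal] (hP : IsPGroup p P)
    (hA : ∀ a ∈ A, ∀ b ∈ A, a * b = b * a)
    (hmax : ∀ X : Subgroup G, X ≤ P ⊔ A → (∀ a ∈ X, ∀ b ∈ X, a * b = b * a) →
      Nat.card X ≤ Nat.card A)
    (hQ : ∀ s ∈ Q, (orderOf s).Coprime p) (hQne : Q ≠ ⊥)
    (hCQ : ∀ s ∈ Q, (∀ x ∈ P, s * x = x * s) → s = 1)
    (hAQ : ∀ a ∈ A, ∀ s ∈ Q, ∃ x ∈ P, ∃ s' ∈ Q, a * s * a⁻¹ = x * s')
    {c : G} (hc : c ∈ A) {k : ℕ} (hk : 0 < k)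
    (hgen : ∀ a ∈ A, ∃ i : ℕ, a * (c ^ i)⁻¹ ∈ P) (hord : ∀ i : ℕ, c ^ i ∈ P ↔ p ^ k ∣ i)
    (hfpf : ∀ i : ℕ, c ^ i ∉ P → ∀ s ∈ Q, c ^ i * s * (c ^ i)⁻¹ * s⁻¹ ∈ P → s = 1) : False := by
  classical
  have hne : ¬ P ≤ centralizer (Q : Set G) := fun h =>
    hQne ((Subgroup.eq_bot_iff_forall Q).mpr fun s hs =>
      hCQ s hs fun x hx => (mem_centralizer_iff.mp (h hx) s hs))
  obtain ⟨L⟩ := exists_layer hP hQ hne
  set n := p ^ k with hn
  have hn5 : 5 ≤ n := hp5.trans (Nat.le_self_pow (by omega) p)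
  set C := L.ρ c with hC
  have hcn : c ^ n ∈ P := (hord n).mpr dvd_rfl
  have hCn : C ^ n = 1 := by rw [hC, ← map_pow, L.ρ_eq_one_of_mem hcn]
  set T := C - 1 with hT
  -- the norm element is nonzero
  obtain ⟨z, hz⟩ : ∃ z, (T ^ (n - 1)) z ≠ 0 := by
    by_contra hcon
    push Not at hcon
    have hN0 : T ^ (n - 1) = 0 := LinearMap.ext hcon
    refine L.not_forall_ρ_eq_one fun t ht => ?_
    cases nonempty_fintype Q
    have hcard : ¬ p ∣ Fintype.card Q := by
      intro h
      rw [← Nat.card_eq_fintype_card] at h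
      obtain ⟨⟨s, hs⟩, hso⟩ := exists_prime_orderOf_dvd_card' (G := Q) p h
      have h' : orderOf s = p := by rw [← hso]; exact (Subgroup.orderOf_coe (⟨s, hs⟩ : Q))
      have := hQ s hs
      rw [h', Nat.coprime_self] at this
      exact hp.out.one_lt.ne' this
    choose xx hxx ss hss heq using fun (i : ℕ) (s : Q) =>
      hAQ (c ^ i) (pow_mem hc i) ((s : G)⁻¹) (inv_mem s.2)
    let ψ : ℕ → Q → Q := fun i s => s * ⟨ss i s, hss i s⟩
    refine eq_one_of_norm_eq_zero (ι := Q) (fun s => L.ρ (s : G)) (fun s => L.ρ ((s : G)⁻¹))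
      (fun s => by rw [← map_mul, mul_inv_cancel, map_one]) hcard C (k := k) hN0 ψ ?_ ?_
      (fun t s => t * s) (fun t => (Group.mulLeft_bijective t))
      (fun t s => by rw [← map_mul]; rfl) ⟨t, ht⟩
    · intro i hi hi'
      refine Finite.injective_iff_bijective.mp fun s t hst => ?_
      have h1 : (s : G) * ss i s = (t : G) * ss i t := congrArg Subtype.val hst
      set u : G := (t : G)⁻¹ * s with hu
      have h2 : ss i t * (ss i s)⁻¹ = u := by
        rw [hu, eq_inv_mul_iff_mul_eq, ← mul_assoc, ← h1, mul_inv_cancel_right]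
      have h3 : c ^ i * u * (c ^ i)⁻¹ = xx i t * u * (xx i s)⁻¹ := by
        have e : c ^ i * u * (c ^ i)⁻¹ =
            (c ^ i * (t : G)⁻¹ * (c ^ i)⁻¹) * (c ^ i * (s : G)⁻¹ * (c ^ i)⁻¹)⁻¹ := by
          rw [hu]; group
        rw [e, heq, heq, ← h2]; group
      have h4 : c ^ i * u * (c ^ i)⁻¹ * u⁻¹ ∈ P := by
        rw [h3]
        have := mul_mem (hxx i t) (‹P.Normal›.conj_mem _ (inv_mem (hxx i s)) u)
        simpa [mul_assoc] using this
      have hnotP : c ^ i ∉ P := fun h =>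
        absurd (Nat.le_of_dvd hi ((hord i).mp h)) (not_le.mpr hi')
      have := hfpf i hnotP u (mul_mem (inv_mem t.2) s.2) h4
      exact Subtype.ext (inv_mul_eq_one.mp this).symm
    · intro i _ _ s
      rw [hC, ← map_pow, ← map_mul, ← map_mul, ← map_mul]
      have e : (s : G) * c ^ i * (s : G)⁻¹ =
          ((s : G) * xx i s * (s : G)⁻¹) * ((((ψ i s : Q)) : G) * c ^ i) := by
        have h := heq i s
        rw [mul_inv_eq_iff_eq_mul] at h
        rw [mul_assoc (s : G) (c ^ i), h]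
        simp [ψ, mul_assoc]
      rw [e, map_mul, L.ρ_eq_one_of_mem (‹P.Normal›.conj_mem _ (hxx i s) _), one_mul]
  -- the action on the derived subgroup is nilpotent of small index
  set CD := L.ρD c with hCD
  have hDP : L.Dg ≤ P := (commutator_le_left L.Y L.Y).trans L.leP
  have hTD : (CD - 1) ^ (k + 1) = 0 := by
    have hnil : (CD - 1) ^ p ^ k = 0 := by
      rw [sub_one_pow_prime_pow, ← hn, hCD, ← map_pow, L.ρD_eq_one_of_mem hcn, sub_self]
    refine pow_succ_eq_zero_of_card_range_le hnil ?_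
    have hcardA : Nat.card A ≤ p ^ k * Nat.card ↥(A ⊓ P) := by
      rw [← Nat.card_fin (p ^ k), ← Nat.card_prod]
      refine Nat.card_le_card_of_surjective (fun iy : Fin (p ^ k) × ↥(A ⊓ P) =>
        (⟨(iy.2 : G) * c ^ (iy.1 : ℕ), mul_mem (Subgroup.mem_inf.mp iy.2.2).1 (pow_mem hc _)⟩ : A)) fun a => ?_
      obtain ⟨i, hi⟩ := hgen a a.2
      refine ⟨(⟨i % p ^ k, Nat.mod_lt _ (pow_pos hp.out.pos k)⟩,
        ⟨(a : G) * (c ^ (i % p ^ k))⁻¹, A.mul_mem a.2 (A.inv_mem (A.pow_mem hc _)), ?_⟩),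
        Subtype.ext (inv_mul_cancel_right _ _)⟩
      have e : (a : G) * (c ^ (i % p ^ k))⁻¹ = (a : G) * (c ^ i)⁻¹ * (c ^ p ^ k) ^ (i / p ^ k) := by
        rw [← pow_mul, mul_assoc]
        congr 1
        rw [eq_inv_mul_iff_mul_eq, mul_inv_eq_iff_eq_mul, ← pow_add, add_comm, Nat.mod_add_div]
      rw [e]
      exact mul_mem hi (pow_mem hcn _)
    have hXle : Nat.card ↥((A ⊓ P) ⊔ L.Dg) ≤ Nat.card A := by
      refine hmax _ (sup_le (inf_le_right.trans le_sup_left) (hDP.trans le_sup_left)) ?_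
      exact comm_sup (fun a ha b hb => hA a ha.1 b hb.1)
        (fun a ha b hb => congrArg Subtype.val (mul_comm (⟨a, ha⟩ : L.Dg) ⟨b, hb⟩))
        (fun a ha b hb => (L.commD b hb a ha.2).symm)
    have hinf : (A ⊓ P) ⊓ L.Dg = A ⊓ L.Dg := by
      rw [inf_assoc, inf_eq_right.mpr hDP]
    have hD : Nat.card L.Dg ≤ p ^ k * Nat.card ↥(A ⊓ L.Dg) := by
      refine Nat.le_of_mul_le_mul_left ?_ (Nat.card_pos (α := ↥(A ⊓ P)))
      calc Nat.card ↥(A ⊓ P) * Nat.card L.Dg
          ≤ Nat.card ↥((A ⊓ P) ⊔ L.Dg) * Nat.card ↥((A ⊓ P) ⊓ L.Dg) := card_mul_card_le _ _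
        _ ≤ (p ^ k * Nat.card ↥(A ⊓ P)) * Nat.card ↥(A ⊓ L.Dg) := by
            rw [hinf]; exact Nat.mul_le_mul_right _ (hXle.trans hcardA)
        _ = _ := by ring
    have hker : Nat.card ↥(A ⊓ L.Dg) ≤ Nat.card (LinearMap.ker (CD - 1)) := by
      refine Nat.card_le_card_of_injective (fun d => ⟨Additive.ofMul (⟨(d : G), d.2.2⟩ : L.Dg), ?_⟩)
        fun d e hde => Subtype.ext (congrArg (fun v => ((Additive.toMul v : L.Dg) : G))
          (congrArg Subtype.val hde))
      rw [LinearMap.mem_ker, LinearMap.sub_apply, Module.End.one_apply, sub_eq_zero, hCD, L.ρD_apply]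
      refine congrArg Additive.ofMul (Subtype.ext ?_)
      change c * (d : G) * c⁻¹ = d
      rw [hA c hc d d.2.1, mul_inv_cancel_right]
    have hprod : Nat.card (Additive L.Dg) =
        Nat.card (LinearMap.ker (CD - 1)) * Nat.card (LinearMap.range (CD - 1)) := by
      rw [Submodule.card_eq_card_quotient_mul_card (LinearMap.ker (CD - 1)),
        Nat.card_congr (LinearMap.quotKerEquivRange (CD - 1)).toEquiv]
    refine Nat.le_of_mul_le_mul_left ?_ (Nat.card_pos (α := LinearMap.ker (CD - 1)))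
    rw [← hprod, mul_comm _ (p ^ k)]
    exact (Nat.card_congr Additive.toMul).le.trans (hD.trans (Nat.mul_le_mul_left _ hker))
  -- the chain
  have hTn : T ^ n = 0 := by rw [hT, hn, sub_one_pow_prime_pow, ← hn, hCn, sub_self]
  set x0 := (T ^ (n - 4)) z with hx0
  set u3 := (T ^ (n - 3)) z with hu3
  set u2 := (T ^ (n - 2)) z with hu2
  set u1 := (T ^ (n - 1)) z with hu1
  have hstep : ∀ a b : ℕ, a + 1 = b → T ((T ^ a) z) = (T ^ b) z := fun a b h => by
    rw [← Module.End.mul_apply, ← pow_succ', h]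
  have hx3 : T x0 = u3 := hstep _ _ (by omega)
  have h32 : T u3 = u2 := hstep _ _ (by omega)
  have h21 : T u2 = u1 := hstep _ _ (by omega)
  have h10 : T u1 = 0 := by rw [hstep (n - 1) n (by omega), hTn, LinearMap.zero_apply]
  have hCT : ∀ v, C v = v + T v := fun v => by
    rw [hT, LinearMap.sub_apply, Module.End.one_apply, add_sub_cancel]
  set W := Submodule.span (ZMod p) ({u3, u2, u1} : Set L.V) with hW
  have hWC : ∀ v ∈ W, C v ∈ W := by
    intro v hv
    have : W.map C ≤ W := by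
      rw [hW, Submodule.map_span_le]
      rintro u (rfl | rfl | rfl)
      · rw [hCT, h32]; exact add_mem (Submodule.subset_span (by simp)) (Submodule.subset_span (by simp))
      · rw [hCT, h21]; exact add_mem (Submodule.subset_span (by simp)) (Submodule.subset_span (by simp))
      · rw [hCT, h10, add_zero]; exact Submodule.subset_span (by simp)
    exact this (Submodule.mem_map_of_mem hv)
  have hgens : ∀ v ∈ ({u3, u2, u1} : Set L.V), ∃ i, 1 ≤ i ∧ i ≤ 3 ∧ v = (T ^ (n - i)) z := by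
    rintro v (rfl | rfl | rfl)
    exacts [⟨3, by omega, le_rfl, rfl⟩, ⟨2, by omega, by omega, rfl⟩, ⟨1, le_rfl, by omega, rfl⟩]
  have hβW : ∀ v ∈ W, ∀ w ∈ W, L.β v w = 0 := by
    intro v hv w hw
    induction hv using Submodule.span_induction with
    | mem v hv =>
      induction hw using Submodule.span_induction with
      | mem w hw =>
        obtain ⟨i, hi, hi', rfl⟩ := hgens v hv
        obtain ⟨j, hj, hj', rfl⟩ := hgens w hw
        exact form_vanish hp5 L.β C CD (L.β_equivariant c) L.β_self hk hCn hTD z hi hi' hj hj'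
      | zero => simp
      | add w w' _ _ h h' => rw [map_add, h, h', add_zero]
      | smul a w _ h => rw [map_smul, h, smul_zero]
    | zero => simp
    | add v v' _ _ h h' => rw [map_add, LinearMap.add_apply, h, h', add_zero]
    | smul a v _ h => rw [map_smul, LinearMap.smul_apply, h, smul_zero]
  have hpowW : ∀ i : ℕ, (C ^ i) x0 - x0 ∈ W := by
    intro i
    induction i with
    | zero => simp
    | succ i ih =>
      have e : (C ^ (i + 1)) x0 - x0 = C ((C ^ i) x0 - x0) + T x0 := by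
        rw [pow_succ', Module.End.mul_apply, map_sub, hCT x0]; abel
      rw [e, hx3]
      exact add_mem (hWC _ ih) (Submodule.subset_span (by simp))
  -- the subgroup generated by the commutators of a lift with `A`
  obtain ⟨x, hx⟩ := L.toV_surjective x0
  let cm : G → L.Y := fun a => x⁻¹ * MulAut.conjNormal a x
  have hcm : ∀ a, ((cm a : L.Y) : G) = (x : G)⁻¹ * (a * x * a⁻¹) := fun a => rfl
  have hcmV : ∀ a, L.toV (cm a) = L.ρ a x0 - x0 := fun a => by
    rw [L.toV_mul, L.toV_inv, ← L.ρ_toV, hx]; abel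
  have hρA : ∀ a ∈ A, ∃ i : ℕ, L.ρ a = C ^ i := fun a ha => by
    obtain ⟨i, hi⟩ := hgen a ha
    refine ⟨i, ?_⟩
    rw [hC, ← map_pow, ← one_mul (L.ρ (c ^ i)), ← L.ρ_eq_one_of_mem hi, ← map_mul,
      inv_mul_cancel_right]
  set M := closure ((fun a => ((cm a : L.Y) : G)) '' (A : Set G)) with hM
  have hcmM : ∀ a ∈ A, ((cm a : L.Y) : G) ∈ M := fun a ha => subset_closure ⟨a, ha, rfl⟩
  have hMW : ∀ m ∈ M, ∃ y : L.Y, (y : G) = m ∧ L.toV y ∈ W := by
    intro m hm
    induction hm using closure_induction with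
    | mem m hm =>
      obtain ⟨a, ha, rfl⟩ := hm
      obtain ⟨i, hi⟩ := hρA a ha
      exact ⟨cm a, rfl, by rw [hcmV, hi]; exact hpowW i⟩
    | one => exact ⟨1, rfl, by rw [L.toV_one]; exact zero_mem W⟩
    | mul m m' _ _ h h' =>
      obtain ⟨y, rfl, hy⟩ := h
      obtain ⟨y', rfl, hy'⟩ := h'
      exact ⟨y * y', rfl, by rw [L.toV_mul]; exact add_mem hy hy'⟩
    | inv m _ h =>
      obtain ⟨y, rfl, hy⟩ := h
      exact ⟨y⁻¹, rfl, by rw [L.toV_inv]; exact neg_mem hy⟩
  have hMY : M ≤ L.Y := fun m hm => by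
    obtain ⟨y, rfl, -⟩ := hMW m hm
    exact y.2
  have hMcomm : ∀ a ∈ M, ∀ b ∈ M, a * b = b * a := fun a ha b hb => by
    obtain ⟨y, rfl, hy⟩ := hMW a ha
    obtain ⟨y', rfl, hy'⟩ := hMW b hb
    exact L.commute_of_β (hβW _ hy _ hy')
  have hcocycle : ∀ a b : G, ((cm (b * a) : L.Y) : G) = (cm b : G) * (b * (cm a : G) * b⁻¹) :=
    fun a b => by simp only [hcm]; group
  have hAM : ∀ b ∈ A, ∀ m ∈ M, b * m * b⁻¹ ∈ M := by
    intro b hb m hm
    induction hm using closure_induction with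
    | mem m hm =>
      obtain ⟨a, ha, rfl⟩ := hm
      have e : b * (cm a : G) * b⁻¹ = (cm b : G)⁻¹ * (cm (b * a) : G) := by
        rw [hcocycle, inv_mul_cancel_left]
      rw [e]
      exact mul_mem (inv_mem (hcmM b hb)) (hcmM _ (mul_mem hb ha))
    | one => simp
    | mul m m' _ _ h h' =>
      have e : b * (m * m') * b⁻¹ = (b * m * b⁻¹) * (b * m' * b⁻¹) := by group
      rw [e]; exact mul_mem h h'
    | inv m _ h =>
      have e : b * m⁻¹ * b⁻¹ = (b * m * b⁻¹)⁻¹ := by group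
      rw [e]; exact inv_mem h
  -- the image of `M` contains the span
  let MV : AddSubgroup L.V :=
    { carrier := {v | ∃ y : L.Y, (y : G) ∈ M ∧ L.toV y = v}
      zero_mem' := ⟨1, one_mem M, L.toV_one⟩
      add_mem' := by
        rintro _ _ ⟨y, hy, rfl⟩ ⟨y', hy', rfl⟩
        exact ⟨y * y', mul_mem hy hy', rfl⟩
      neg_mem' := by
        rintro _ ⟨y, hy, rfl⟩
        exact ⟨y⁻¹, inv_mem hy, rfl⟩ }
  have hMVsmul : ∀ (a : ZMod p) v, v ∈ MV → a • v ∈ MV := fun a v hv => by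
    rw [← ZMod.natCast_zmod_val a, Nat.cast_smul_eq_nsmul]
    exact nsmul_mem hv _
  have hMVC : ∀ v ∈ MV, C v ∈ MV := by
    rintro _ ⟨y, hy, rfl⟩
    exact ⟨MulAut.conjNormal c y, hAM c hc _ hy, (L.ρ_toV c y).symm⟩
  have hu3M : u3 ∈ MV := ⟨cm c, hcmM c hc, by
    rw [hcmV, ← hx3, hT, LinearMap.sub_apply, Module.End.one_apply]⟩
  have hu2M : u2 ∈ MV := by
    have := sub_mem (hMVC _ hu3M) hu3M
    rwa [hCT, h32, add_sub_cancel_left] at this
  have hu1M : u1 ∈ MV := by
    have := sub_mem (hMVC _ hu2M) hu2M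
    rwa [hCT, h21, add_sub_cancel_left] at this
  have hu10 : u1 ≠ 0 := hz
  have hindep : ∀ a b d : ZMod p, a • u3 + b • u2 + d • u1 = 0 → a = 0 ∧ b = 0 ∧ d = 0 := by
    intro a b d h
    have h1 := congrArg T h
    simp only [map_add, map_smul, h32, h21, h10, smul_zero, add_zero, map_zero] at h1
    have h2 := congrArg T h1
    simp only [map_add, map_smul, h21, h10, smul_zero, add_zero, map_zero] at h2
    have ha : a = 0 := (smul_eq_zero.mp h2).resolve_right hu10
    rw [ha, zero_smul, zero_add] at h1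
    have hb : b = 0 := (smul_eq_zero.mp h1).resolve_right hu10
    rw [ha, hb, zero_smul, zero_smul, zero_add, zero_add] at h
    exact ⟨ha, hb, (smul_eq_zero.mp h).resolve_right hu10⟩
  -- the intersection with `A` is small
  have hMA : ∀ y : L.Y, (y : G) ∈ M → (y : G) ∈ A → ∃ d : ZMod p, L.toV y = d • u1 := by
    intro y hyM hyA
    obtain ⟨y', hyy, hy'⟩ := hMW _ hyM
    obtain rfl : y = y' := Subtype.ext hyy.symm
    obtain ⟨a, v, hv, hav⟩ := Submodule.mem_span_insert.mp hy'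
    obtain ⟨b, d, hbd⟩ := Submodule.mem_span_pair.mp hv
    have hfix : C (L.toV y) = L.toV y := by
      rw [hC, L.ρ_toV]
      refine congrArg L.toV (Subtype.ext ?_)
      change c * (y : G) * c⁻¹ = y
      rw [hA c hc y hyA, mul_inv_cancel_right]
    have h0 : T (L.toV y) = 0 := by
      rw [hT, LinearMap.sub_apply, Module.End.one_apply, hfix, sub_self]
    rw [hav, ← hbd] at h0
    simp only [map_add, map_smul, h32, h21, h10, smul_zero, add_zero] at h0
    obtain ⟨-, ha, hb⟩ := hindep 0 a b (by simpa using h0)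
    exact ⟨d, by rw [hav, ← hbd, ha, hb, zero_smul, zero_smul, zero_add, zero_add]⟩
  have hCp : (C ^ p) x0 = x0 := by
    have h1 : T ^ p = C ^ p - 1 := by simpa [hT] using sub_one_pow_prime_pow C 1
    have h2 : (T ^ p) x0 = 0 := by
      rw [hx0, ← Module.End.mul_apply, ← pow_add, pow_eq_zero_of_le (by omega) hTn,
        LinearMap.zero_apply]
    rwa [h1, LinearMap.sub_apply, Module.End.one_apply, sub_eq_zero] at h2
  have hmod : ∀ i : ℕ, (C ^ i) x0 = (C ^ (i % p)) x0 := by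
    intro i
    conv_lhs => rw [← Nat.mod_add_div i p, pow_add, Module.End.mul_apply, pow_mul]
    congr 1
    induction i / p with
    | zero => simp
    | succ q ih => rw [pow_succ, Module.End.mul_apply, hCp, ih]
  -- choose an element of `M` outside the commutators
  obtain ⟨m, hmM, hmne⟩ : ∃ m : L.Y, (m : G) ∈ M ∧
      ∀ a ∈ A, ∀ y : L.Y, (y : G) ∈ M → (y : G) ∈ A → m ≠ cm a * y := by
    by_contra hcon
    push Not at hcon
    let g : ZMod p × ZMod p × ZMod p → L.V := fun t => t.1 • u3 + t.2.1 • u2 + t.2.2 • u1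
    have hg : Function.Injective g := by
      intro t t' h
      obtain ⟨h1, h2, h3⟩ := hindep (t.1 - t'.1) (t.2.1 - t'.2.1) (t.2.2 - t'.2.2) (by
        simp only [sub_smul]
        have : g t - g t' = 0 := sub_eq_zero.mpr h
        simp only [g] at this
        rw [← this]; abel)
      exact Prod.ext (sub_eq_zero.mp h1) (Prod.ext (sub_eq_zero.mp h2) (sub_eq_zero.mp h3))
    let h : Fin p × ZMod p → L.V := fun t => (C ^ (t.1 : ℕ)) x0 - x0 + t.2 • u1
    have hcover : ∀ t, ∃ s, h s = g t := by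
      intro t
      obtain ⟨m, hmM, hm⟩ := add_mem (add_mem (hMVsmul t.1 _ hu3M) (hMVsmul t.2.1 _ hu2M))
        (hMVsmul t.2.2 _ hu1M)
      obtain ⟨a, ha, y, hyM, hyA, rfl⟩ := hcon m hmM
      obtain ⟨i, hi⟩ := hρA a ha
      obtain ⟨d, hd⟩ := hMA y hyM hyA
      refine ⟨(⟨i % p, Nat.mod_lt _ hp.out.pos⟩, d), ?_⟩
      change (C ^ (i % p)) x0 - x0 + d • u1 = g t
      rw [← hmod, ← hi, ← hd, ← hcmV, ← L.toV_mul]
      exact hm
    choose f hf using hcover
    have hle := Nat.card_le_card_of_injective f fun t t' e => hg (by rw [← hf t, ← hf t', e])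
    simp only [Nat.card_prod, Nat.card_fin, Nat.card_zmod] at hle
    nlinarith [hp5]
  -- the competitor
  set CA := A ⊓ centralizer (M : Set G) with hCA
  have hinter : M ⊓ CA = M ⊓ A := by
    refine le_antisymm (inf_le_inf_left _ inf_le_left) (le_inf inf_le_left (le_inf inf_le_right ?_))
    exact fun u hu => mem_centralizer_iff.mpr fun v hv => hMcomm v hv u hu.1
  have hXle : Nat.card ↥(M ⊔ CA) ≤ Nat.card A := by
    refine hmax _ (sup_le ((hMY.trans L.leP).trans le_sup_left) (inf_le_left.trans le_sup_right)) ?_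
    exact comm_sup hMcomm (fun a ha b hb => hA a ha.1 b hb.1)
      (fun a ha b hb => mem_centralizer_iff.mp hb.2 a ha)
  let qA := A ⧸ CA.subgroupOf A
  let qM := M ⧸ (M ⊓ A).subgroupOf M
  let φ : qA → qM := fun q => ((⟨(cm (q.out : G) : G), hcmM _ q.out.2⟩ : M) : qM)
  have hinj : Function.Injective φ := by
    intro q q' h
    rw [← q.out_eq, ← q'.out_eq]
    refine QuotientGroup.eq.mpr (mem_subgroupOf.mpr ?_)
    have h' := (QuotientGroup.eq.mp h : _ ∈ (M ⊓ A).subgroupOf M)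
    rw [mem_subgroupOf] at h'
    set a : G := (q.out : G) with ha
    set a' : G := (q'.out : G) with ha'
    have haA : a ∈ A := q.out.2
    have ha'A : a' ∈ A := q'.out.2
    set a'' := a⁻¹ * a' with ha''
    have ha''A : a'' ∈ A := mul_mem (inv_mem haA) ha'A
    have hw : a * (cm a'' : G) * a⁻¹ ∈ A := by
      have e : (cm a' : G) = (cm a : G) * (a * (cm a'' : G) * a⁻¹) := by
        rw [← hcocycle, ha'', mul_inv_cancel_left]
      have h2 : (cm a : G)⁻¹ * (cm a' : G) ∈ A := h'.2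
      rwa [e, inv_mul_cancel_left] at h2
    set u := (cm a'' : G) with hu
    have huA : u ∈ A := by
      have := mul_mem (mul_mem (inv_mem haA) hw) haA
      simpa [mul_assoc] using this
    refine ⟨ha''A, ?_⟩
    change a'' ∈ centralizer (M : Set G)
    rw [hM, centralizer_closure, mem_centralizer_iff]
    rintro _ ⟨a1, ha1, rfl⟩
    have e1 := hcocycle a1 a''
    have e2 := hcocycle a'' a1
    rw [hA a1 ha1 a'' ha''A, e1, ← hu, hA a1 ha1 u huA, mul_inv_cancel_right,
      hMcomm _ (hcmM a1 ha1) u (hcmM a'' ha''A)] at e2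
    have e3 := mul_left_cancel e2
    change (cm a1 : G) * a'' = a'' * (cm a1 : G)
    rw [mul_inv_eq_iff_eq_mul] at e3
    exact e3.symm
  have hsurj : ¬ Function.Surjective φ := by
    intro h
    obtain ⟨q, hq⟩ := h ((⟨(m : G), hmM⟩ : M) : qM)
    have h' := (QuotientGroup.eq.mp hq : _ ∈ (M ⊓ A).subgroupOf M)
    rw [mem_subgroupOf] at h'
    refine hmne (q.out : G) q.out.2 ((cm (q.out : G))⁻¹ * m) h'.1 h'.2 ?_
    rw [mul_inv_cancel_left]
  have hlt : Nat.card qA < Nat.card qM :=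
    lt_of_not_ge fun h => hsurj (hinj.bijective_of_nat_card_le h).2
  have hA' : Nat.card A = Nat.card qA * Nat.card CA := by
    rw [Subgroup.card_eq_card_quotient_mul_card_subgroup (CA.subgroupOf A),
      Nat.card_congr (subgroupOfEquivOfLe (inf_le_left : CA ≤ A)).toEquiv]
  have hM' : Nat.card M = Nat.card qM * Nat.card ↥(M ⊓ A) := by
    rw [Subgroup.card_eq_card_quotient_mul_card_subgroup ((M ⊓ A).subgroupOf M),
      Nat.card_congr (subgroupOfEquivOfLe (inf_le_left : M ⊓ A ≤ M)).toEquiv]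
  have hfin := card_mul_card_le M CA
  rw [hinter] at hfin
  have h1 : Nat.card qM * (Nat.card ↥(M ⊓ A) * Nat.card CA) ≤
      Nat.card qA * (Nat.card ↥(M ⊓ A) * Nat.card CA) := by
    calc _ = Nat.card M * Nat.card CA := by rw [hM', mul_assoc]
      _ ≤ Nat.card A * Nat.card ↥(M ⊓ A) := hfin.trans (Nat.mul_le_mul_right _ hXle)
      _ = _ := by rw [hA']; ring
  exact absurd (Nat.le_of_mul_le_mul_right h1 (Nat.mul_pos Nat.card_pos Nat.card_pos))
    (not_le.mpr hlt)

end Cfsg.Agent.H30.JCore
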