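import Cfsg.Agent.H30.JCore.MaxAbelian
import Cfsg.Agent.H25.ThompsonCriterion
import Cfsg.Agent.H59.ThompsonMap
import Cfsg.Agent.H85.GlaubermanStep
import Cfsg.Agent.Thompson.Jay
import Cfsg.Agent.Fusion.PComplement
import Cfsg.Agent.Cores.PCore

/-!
Thompson's normal `p`-complement criterion for `J`, `p ≥ 5`.
-/

set_option autoImplicit false

namespace Cfsg.Agent.H30.JCore

open Subgroup
open scoped commutatorElement

universe u

variable {p : ℕ} [hp : Fact p.Prime]

omit hp in
/-- the abelian Thompson subgroup as a functor -/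
theorem isCharPFunctor_thompsonA :
    IsCharPFunctor.{u} p (fun (Q : Type u) _ => thompsonSubgroupA Q) := by
  refine ⟨fun Q _ _ _ hne h => ?_, fun Q R _ _ _ _ φ => H59.map_thompsonA φ⟩
  refine H59.thompsonAOf_ne_bot (P := (⊤ : Subgroup Q)) top_ne_bot ?_
  rw [Subgroup.eq_bot_iff_forall]
  intro x hx
  have h2 := H59.thompsonAOf_map (MonoidHom.id Q) (⊤ : Subgroup Q) (fun a _ b _ e => e)
  have h3 : (thompsonSubgroupA (⊤ : Subgroup Q)).map (⊤ : Subgroup Q).subtype = thompsonSubgroupA Q :=
    H59.map_thompsonA Subgroup.topEquiv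
  exact (Subgroup.eq_bot_iff_forall _).mp (h3.trans h) x hx

/-- For `p ≥ 5`: `J(T) = J(O_p(X))` in a constrained group with `X / O_p(X)` having an abelian
`p'`-part of `p`-power index. -/
theorem thompsonAOf_normal {X : Type u} [Group X] [Finite X] (hp5 : 5 ≤ p)
    (hC : centralizer (pCore p X : Set X) ≤ pCore p X) (hX : H25.IsPAbelianP p X) (T : Sylow p X) :
    (thompsonSubgroupAOf (T : Subgroup X)).Normal := by
  classical
  set P := pCore p X
  set f := QuotientGroup.mk' P
  have hfs : Function.Surjective f := QuotientGroup.mk'_surjective P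
  obtain ⟨P₀, M, hP₀, hM, hP₀p, hidx, hcomm, htors⟩ := hX
  have hP₀P : P₀ ≤ P := Cores.le_pCore hP₀p
  have hker : ∀ x ∈ P, f x = 1 := fun x hx => (QuotientGroup.eq_one_iff x).mpr hx
  have hKn : (M.map f).Normal := hM.map f hfs
  have hle : thompsonSubgroupAOf (T : Subgroup X) ≤ P := by
    by_contra hcon
    obtain ⟨A, ⟨hAT, hAc, hAm⟩, hAP⟩ := H85.exists_maxAbelian_not_le hcon
    refine hAP (maxAbelian_le hp5 Cores.pCore_isPGroup hC (K := M.map f) ?_ ?_ ?_ ?_ T.isPGroup'
      (Cores.pCore_le_sylow T) hAT (Thompson.isMulCommutative_iff_forall.mp hAc)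
      fun B hB hBc => hAm B hB (Thompson.isMulCommutative_iff_forall.mpr hBc))
    · rintro _ ⟨a, ha, rfl⟩ _ ⟨b, hb, rfl⟩
      rw [← commutatorElement_eq_one_iff_mul_comm, ← map_commutatorElement]
      exact hker _ (hP₀P (hcomm a ha b hb))
    · intro hd
      obtain ⟨⟨y, hy⟩, hyo⟩ := exists_prime_orderOf_dvd_card' (G := M.map f) p hd
      obtain ⟨m, hm, rfl⟩ := hy
      obtain ⟨e, he, hme⟩ := htors m hm
      have h1 : (f m) ^ e = 1 := by rw [← map_pow]; exact hker _ (hP₀P hme)
      have h2 : orderOf (f m) = p := (Subgroup.orderOf_mk (f m) _).symm.trans hyo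
      have h3 : p ∣ e := h2 ▸ orderOf_dvd_of_pow_eq_one h1
      exact hp.out.one_lt.ne' (Nat.eq_one_of_dvd_coprimes he h3 dvd_rfl)
    · intro x
      obtain ⟨y, rfl⟩ := hfs x
      obtain ⟨k, hk⟩ := hidx y
      exact ⟨k, _, hk, map_pow f y _⟩
    · intro N hN hNp
      exact le_bot_iff.mp ((Cores.le_pCore hNp).trans Cores.pCore_quotient_pCore.le)
  have he := H59.thompsonAOf_eq_of_le (Cores.pCore_le_sylow T) hle
  rw [← he]
  refine normalizer_eq_top_iff.mp (top_le_iff.mp ?_)
  refine le_trans ?_ (H59.normalizer_le_normalizer_thompsonAOf P)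
  rw [normalizer_eq_top]

/-- **Thompson's criterion** for `p ≥ 5`. -/
theorem hasNormalPComplement_iff {G : Type u} [Group G] [Finite G] (hp5 : 5 ≤ p) (S : Sylow p G) :
    HasNormalPComplement p G ↔
      ∀ g ∈ normalizer (thompsonSubgroupAOf (S : Subgroup G) : Set G), (orderOf g).Coprime p →
        g ∈ centralizer (thompsonSubgroupAOf (S : Subgroup G) : Set G) := by
  set J := thompsonSubgroupAOf (S : Subgroup G) with hJ
  set N := normalizer (J : Set G) with hN
  have hJS : J ≤ S := map_subtype_le _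
  have hJN : J ≤ N := le_normalizer
  have hJp : IsPGroup p J := S.isPGroup'.to_le hJS
  constructor
  · intro h g hg hgo
    have hJn : (J.subgroupOf N).Normal := normal_in_normalizer
    refine mem_centralizer_iff.mpr fun x hx => ?_
    have := Fusion.commute_of_hasNormalPComplement (G := N)
      (Fusion.hasNormalPComplement_subgroup h N) (Q := J.subgroupOf N) hJp.comap_subtype
      (g := ⟨g, hg⟩) (by rwa [Subgroup.orderOf_mk]) (x := ⟨x, hJN hx⟩) (mem_subgroupOf.mpr hx)
    exact (congrArg Subtype.val this).symm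
  · intro h
    refine H25.thompson_criterion isCharPFunctor_thompsonA S ?_
      fun X _ _ _ hC _ hX T _ => thompsonAOf_normal hp5 hC hX T
    change HasNormalPComplement p N
    set C := centralizer (J : Set G) with hC
    have hCN : C ≤ N := centralizer_le_normalizer _
    have : (C.subgroupOf N).Normal := ⟨fun u hu g => by
      rw [mem_subgroupOf] at hu ⊢
      refine mem_centralizer_iff.mpr fun x hx => ?_
      have hgx : (g : G)⁻¹ * x * (g : G) ∈ J := (mem_normalizer_iff''.mp g.2 x).mp hx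
      have h1 := mem_centralizer_iff.mp hu _ hgx
      calc x * (g * u * g⁻¹ : N) = (g : G) * (((g : G)⁻¹ * x * g) * u) * (g : G)⁻¹ := by
            rw [coe_mul, coe_mul, coe_inv]; group
        _ = (g : G) * ((u : G) * ((g : G)⁻¹ * x * g)) * (g : G)⁻¹ := by rw [h1]
        _ = _ := by rw [coe_mul, coe_mul, coe_inv]; group⟩
    -- the `p`-elements of `C` are central in `C`
    have hZ : ∀ z ∈ (S : Subgroup G) ⊓ C, ∀ y ∈ C, z * y = y * z := by
      intro z hz y hy
      obtain ⟨hzS, hzC⟩ := Subgroup.mem_inf.mp hz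
      have hzJ : z ∈ J := by
        obtain ⟨A, hAS, hAc, hAm⟩ := Thompson.maxIn_nonempty 0 (S : Subgroup G)
        have hAJ : A ≤ J := by
          rw [hJ, Thompson.thompsonSubgroupAOf_eq]
          exact Thompson.le_jay ⟨hAS, hAc, hAm⟩
        have hBc : ∀ a ∈ A ⊔ zpowers z, ∀ b ∈ A ⊔ zpowers z, a * b = b * a := by
          refine comm_sup (fun a ha b hb => hAc.comm ha hb) (fun a ha b hb => ?_) (fun a ha b hb => ?_)
          · obtain ⟨i, rfl⟩ := mem_zpowers_iff.mp ha
            obtain ⟨j, rfl⟩ := mem_zpowers_iff.mp hb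
            exact ((Commute.refl z).zpow_zpow i j).eq
          · obtain ⟨j, rfl⟩ := mem_zpowers_iff.mp hb
            exact (Commute.zpow_right (mem_centralizer_iff.mp hzC a (hAJ ha)) j).eq
        have hB : Thompson.IsAbExp 0 (A ⊔ zpowers z) :=
          ⟨Thompson.isMulCommutative_iff_forall.mpr hBc, fun a _ => pow_zero a⟩
        have hcard := hAm _ (sup_le hAS (zpowers_le.mpr hzS)) hB
        have heq := eq_of_le_of_card_ge (le_sup_left : A ≤ A ⊔ zpowers z) hcard
        exact hAJ (heq.ge (mem_sup_right (mem_zpowers z)))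
      exact mem_centralizer_iff.mp hy z hzJ
    have hSN : (S : Subgroup G) ≤ N := le_trans le_normalizer (by
      rw [hN, hJ]; exact H59.normalizer_le_normalizer_thompsonAOf _)
    have hCnpc : HasNormalPComplement p C := by
      obtain ⟨R⟩ : Nonempty (Sylow p C) := inferInstance
      refine Fusion.hasNormalPComplement_of_normalizer_le_centralizer R fun w _ => ?_
      refine mem_centralizer_iff.mpr fun r hr => ?_
      have hrp : IsPGroup p (zpowers (⟨(r : G), hCN r.2⟩ : N)) := by
        obtain ⟨k, hk⟩ := R.isPGroup' ⟨r, hr⟩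
        have hk' : (⟨(r : G), hCN r.2⟩ : N) ^ p ^ k = 1 :=
          Subtype.ext (congrArg (fun q : C => (q : G)) (congrArg Subtype.val hk))
        obtain ⟨j, -, hj⟩ := (Nat.dvd_prime_pow hp.out).mp (orderOf_dvd_of_pow_eq_one hk')
        exact IsPGroup.of_card (n := j) (by rw [Nat.card_zpowers]; exact hj)
      obtain ⟨R', hR'⟩ := hrp.exists_le_sylow
      obtain ⟨g, hg⟩ := MulAction.exists_smul_eq N R' (S.subtype hSN)
      have hgr : (g : G) * (r : G) * (g : G)⁻¹ ∈ (S : Subgroup G) := by
        have h0 : g * (⟨(r : G), hCN r.2⟩ : N) * g⁻¹ ∈ ((g • R' : Sylow p N) : Subgroup N) := by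
          rw [Sylow.coe_subgroup_smul]
          exact Subgroup.smul_mem_pointwise_smul _ _ _ (hR' (mem_zpowers _))
        rw [hg] at h0
        exact h0
      have hnorm : ∀ (n : N) (y : G), y ∈ C → (n : G) * y * (n : G)⁻¹ ∈ C := fun n y hy =>
        mem_subgroupOf.mp (‹(C.subgroupOf N).Normal›.conj_mem ⟨y, hCN hy⟩ hy n)
      have hgw := hnorm g (w : G) w.2
      have := hZ _ (Subgroup.mem_inf.mpr ⟨hgr, hnorm g _ r.2⟩) _ hgw
      refine Subtype.ext ?_
      rw [coe_mul, coe_mul]
      refine mul_left_cancel (a := (g : G)) (mul_right_cancel (b := (g : G)⁻¹) ?_)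
      calc (g : G) * ((r : G) * w) * (g : G)⁻¹ = ((g : G) * r * (g : G)⁻¹) * ((g : G) * w * (g : G)⁻¹) := by
            group
        _ = _ := by rw [this]; group
    rw [Fusion.hasNormalPComplement_iff_pResidual] at hCnpc ⊢
    intro hd
    refine hCnpc (hd.trans ?_)
    have hle : pResidual p N ≤ ((pResidual p C).map (Subgroup.inclusion hCN)) := by
      refine Fusion.pResidual_le.mpr fun x hx => ?_
      have hxC : (x : G) ∈ C := h x x.2 (by rw [Subgroup.orderOf_coe]; exact hx)
      refine ⟨⟨x, hxC⟩, Fusion.mem_pResidual ?_, Subtype.ext rfl⟩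
      rw [← Subgroup.orderOf_coe]
      rw [← Subgroup.orderOf_coe] at hx
      exact hx
    exact (card_dvd_of_le hle).trans (card_map_dvd _ _)

end Cfsg.Agent.H30.JCore
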