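import Cfsg.Agent.H30.JCore.Competitor

/-!
Commutators of length three `[x, A, A, A]` vanish on the section.
-/

set_option autoImplicit false
set_option linter.unusedSectionVars false

namespace Cfsg.Agent.H30.JCore

open Subgroup
open scoped commutatorElement

variable {p : ℕ} [hp : Fact p.Prime] {G : Type*} [Group G] [Finite G]
variable {P T A : Subgroup G}

namespace Sec

variable {L : Sec p P} {x : L.Y}

theorem da_mul_right (a : G) (y y' : L.Y) : L.da a (y * y') = y'⁻¹ * L.da a y * y' * L.da a y' := by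
  simp only [da, map_mul, mul_inv_rev]; group

theorem da_one_right (a : G) : L.da a 1 = 1 := by simp [da]

/-- the chain `[x, A, …, A]` -/
def K (L : Sec p P) (A : Subgroup G) (x : L.Y) : ℕ → Subgroup L.Y
  | 0 => closure {y | ∃ a ∈ A, y = L.cm x a}
  | n + 1 => closure {y | ∃ a ∈ A, ∃ y' ∈ K L A x n, y = L.da a y'}

/-- the elements of `A` centralising a term of the chain -/
def Cn (L : Sec p P) (A : Subgroup G) (x : L.Y) (n : ℕ) : Subgroup G :=
  A ⊓ centralizer ((K L A x n).map L.Y.subtype : Set G)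

theorem cm_mem_K {a : G} (ha : a ∈ A) : L.cm x a ∈ K L A x 0 := subset_closure ⟨a, ha, rfl⟩

theorem da_mem_K {a : G} (ha : a ∈ A) {n : ℕ} {y : L.Y} (hy : y ∈ K L A x n) :
    L.da a y ∈ K L A x (n + 1) := subset_closure ⟨a, ha, y, hy, rfl⟩

theorem mem_Cn {n : ℕ} {c : G} : c ∈ Cn L A x n ↔ c ∈ A ∧ ∀ y ∈ K L A x n, L.da c y = 1 := by
  rw [Cn, Subgroup.mem_inf, mem_centralizer_iff]
  refine and_congr Iff.rfl ⟨fun h y hy => ?_, fun h => ?_⟩
  · apply Subtype.ext
    rw [L.coe_da, ← h (y : G) ⟨y, hy, rfl⟩, mul_inv_cancel_right, inv_mul_cancel]; rfl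
  · rintro _ ⟨y, hy, rfl⟩
    have h1 := congrArg Subtype.val (h y hy)
    rw [L.coe_da] at h1
    have h2 : c * (y : G) * c⁻¹ = y := inv_mul_eq_one.mp h1 |>.symm
    exact (mul_inv_eq_iff_eq_mul.mp h2).symm

/-- the span of `t a x` -/
def W1 (L : Sec p P) (A : Subgroup G) (x : L.Y) : AddSubgroup L.V :=
  AddSubgroup.closure {v | ∃ a ∈ A, v = L.t a (L.toV x)}

/-- the span of `t a (t b x)` -/
def W2 (L : Sec p P) (A : Subgroup G) (x : L.Y) : AddSubgroup L.V :=
  AddSubgroup.closure {v | ∃ a ∈ A, ∃ b ∈ A, v = L.t a (L.t b (L.toV x))}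

namespace KeyHyp

variable (hk : L.KeyHyp A x)

include hk

theorem W2_le : Sec.W2 L A x ≤ Sec.W1 L A x := by
  rw [Sec.W2, AddSubgroup.closure_le]
  rintro _ ⟨a, ha, b, hb, rfl⟩
  rw [SetLike.mem_coe, L.t_t]
  exact sub_mem (sub_mem (AddSubgroup.subset_closure ⟨_, mul_mem ha hb, rfl⟩)
    (AddSubgroup.subset_closure ⟨a, ha, rfl⟩)) (AddSubgroup.subset_closure ⟨b, hb, rfl⟩)

theorem t_mem_W2 {a : G} (ha : a ∈ A) {v : L.V} (hv : v ∈ Sec.W1 L A x) : L.t a v ∈ Sec.W2 L A x := by
  induction hv using AddSubgroup.closure_induction with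
  | mem v hv =>
    obtain ⟨b, hb, rfl⟩ := hv
    exact AddSubgroup.subset_closure ⟨a, ha, b, hb, rfl⟩
  | zero => rw [map_zero]; exact zero_mem _
  | add u v _ _ hu hv => rw [map_add]; exact add_mem hu hv
  | neg v _ hv => rw [map_neg]; exact neg_mem hv

theorem β_W1_W2 {u v : L.V} (hu : u ∈ Sec.W1 L A x) (hv : v ∈ Sec.W2 L A x) : L.β u v = 0 := by
  induction hu using AddSubgroup.closure_induction with
  | mem u hu =>
    obtain ⟨a, ha, rfl⟩ := hu
    induction hv using AddSubgroup.closure_induction with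
    | mem v hv => obtain ⟨b, hb, c, hc, rfl⟩ := hv; exact hk.h1 a ha b hb c hc
    | zero => rw [map_zero]
    | add u v _ _ hu hv => rw [map_add, hu, hv, add_zero]
    | neg v _ hv => rw [map_neg, hv, neg_zero]
  | zero => rw [map_zero, LinearMap.zero_apply]
  | add u v _ _ hu hv => rw [map_add, LinearMap.add_apply, hu, hv, add_zero]
  | neg v _ hv => rw [map_neg, LinearMap.neg_apply, hv, neg_zero]

theorem K_W : ∀ n, ∀ y ∈ K L A x n, L.toV y ∈ Sec.W1 L A x ∧ (0 < n → L.toV y ∈ Sec.W2 L A x) := by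
  intro n
  induction n with
  | zero =>
    intro y hy
    refine ⟨?_, fun h => absurd h (lt_irrefl 0)⟩
    induction hy using closure_induction with
    | mem y hy =>
      obtain ⟨a, ha, rfl⟩ := hy
      rw [L.toV_cm]; exact AddSubgroup.subset_closure ⟨a, ha, rfl⟩
    | one => rw [L.toV_one]; exact zero_mem _
    | mul u v _ _ hu hv => rw [L.toV_mul]; exact add_mem hu hv
    | inv v _ hv => rw [L.toV_inv]; exact neg_mem hv
  | succ n ih =>
    intro y hy
    suffices h : L.toV y ∈ Sec.W2 L A x from ⟨hk.W2_le h, fun _ => h⟩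
    induction hy using closure_induction with
    | mem y hy =>
      obtain ⟨a, ha, y', hy', rfl⟩ := hy
      rw [L.toV_da]; exact hk.t_mem_W2 ha (ih y' hy').1
    | one => rw [L.toV_one]; exact zero_mem _
    | mul u v _ _ hu hv => rw [L.toV_mul]; exact add_mem hu hv
    | inv v _ hv => rw [L.toV_inv]; exact neg_mem hv

theorem da_toV_W2 {a : G} (ha : a ∈ A) {y : L.Y} (hy : L.toV y ∈ Sec.W1 L A x) :
    L.toV (L.da a y) ∈ Sec.W2 L A x := by
  rw [L.toV_da]; exact hk.t_mem_W2 ha hy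

theorem da_hom {a : G} (ha : a ∈ A) {y y' : L.Y} (hy : L.toV y ∈ Sec.W1 L A x) (hy' : L.toV y' ∈ Sec.W1 L A x) :
    L.da a (y * y') = L.da a y * L.da a y' := by
  have h1 : (y' : G) * (L.da a y : G) = (L.da a y : G) * y' :=
    L.commute_of_β (hk.β_W1_W2 hy' (hk.da_toV_W2 ha hy))
  rw [L.da_mul_right]
  congr 1
  apply Subtype.ext
  rw [Subgroup.coe_mul, Subgroup.coe_mul, Subgroup.coe_inv, mul_assoc, ← h1, inv_mul_cancel_left]

theorem da_hom_inv {a : G} (ha : a ∈ A) {y : L.Y} (hy : L.toV y ∈ Sec.W1 L A x) :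
    L.da a y⁻¹ = (L.da a y)⁻¹ := by
  have h := hk.da_hom ha (by rw [L.toV_inv]; exact neg_mem hy) hy
  rw [inv_mul_cancel, L.da_one_right] at h
  exact (inv_eq_of_mul_eq_one_left h.symm).symm

theorem K_succ_le (n : ℕ) : K L A x (n + 1) ≤ K L A x n := by
  induction n with
  | zero =>
    conv_lhs => rw [K]
    rw [closure_le]
    rintro _ ⟨e, he, y, hy, rfl⟩
    induction hy using closure_induction with
    | mem y hy =>
      obtain ⟨a, ha, rfl⟩ := hy
      have e1 : L.da e (L.cm x a) = (L.cm x a)⁻¹ * ((L.cm x e)⁻¹ * L.cm x (e * a)) := Subtype.ext (by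
        simp only [Subgroup.coe_mul, Subgroup.coe_inv, L.cm_mul, L.coe_da, inv_mul_cancel_left])
      rw [SetLike.mem_coe, e1]
      exact mul_mem (inv_mem (cm_mem_K ha)) (mul_mem (inv_mem (cm_mem_K he)) (cm_mem_K (mul_mem he ha)))
    | one => rw [SetLike.mem_coe, L.da_one_right]; exact one_mem _
    | mul u v hu hv iu iv =>
      rw [SetLike.mem_coe, hk.da_hom he (hk.K_W 0 u hu).1 (hk.K_W 0 v hv).1]; exact mul_mem iu iv
    | inv v hv iv =>
      rw [SetLike.mem_coe, hk.da_hom_inv he (hk.K_W 0 v hv).1]; exact inv_mem iv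
  | succ n ih =>
    exact closure_mono (by rintro _ ⟨e, he, y, hy, rfl⟩; exact ⟨e, he, y, ih hy, rfl⟩)

theorem K_succ_le_one (n : ℕ) : K L A x (n + 1) ≤ K L A x 1 := by
  induction n with
  | zero => exact le_rfl
  | succ n ih => exact (hk.K_succ_le (n + 1)).trans ih

theorem da_eq_one_of_fixed {a : G} {η : L.Y} (h : a * (η : G) = η * a) : L.da a η = 1 := by
  apply Subtype.ext
  rw [L.coe_da, h, mul_inv_cancel_right, inv_mul_cancel]; rfl

variable (h : MinOutside p P T A)

include h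

theorem da_comm {e b : G} (he : e ∈ A) (hb : b ∈ A) {y : L.Y} (hy : L.toV y ∈ Sec.W1 L A x) :
    L.da e (L.da b y) = L.da b (L.da e y) := by
  have e1 : L.da b y = y⁻¹ * MulAut.conjNormal b y := rfl
  have e2 : L.toV (MulAut.conjNormal b y) ∈ Sec.W1 L A x := by
    have h0 : MulAut.conjNormal b y = y * L.da b y := by rw [da, mul_inv_cancel_left]
    rw [h0, L.toV_mul]
    exact add_mem hy (hk.W2_le (hk.da_toV_W2 hb hy))
  rw [e1, hk.da_hom he (by rw [L.toV_inv]; exact neg_mem hy) e2, hk.da_hom_inv he hy]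
  apply Subtype.ext
  have he' : (L.da e (MulAut.conjNormal b y) : G) = b * (L.da e y : G) * b⁻¹ := by
    rw [L.coe_da, L.coe_da, MulAut.conjNormal_apply]
    calc (b * (y : G) * b⁻¹)⁻¹ * (e * (b * y * b⁻¹) * e⁻¹)
        = b * (y : G)⁻¹ * b⁻¹ * ((e * b) * y * (e * b)⁻¹) := by group
      _ = b * (y : G)⁻¹ * b⁻¹ * ((b * e) * y * (b * e)⁻¹) := by rw [h.comm e he b hb]
      _ = _ := by group
  rw [Subgroup.coe_mul, Subgroup.coe_inv, he', L.coe_da b]

theorem K_eventually : ∃ n, K L A x n = ⊥ := by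
  have key : ∀ n, (K L A x n).map L.Y.subtype ≤ T.lowerCentralSeries n := by
    intro n
    induction n with
    | zero => exact (map_subtype_le _).trans (L.leP.trans h.Ple)
    | succ n ih =>
      conv_lhs => rw [K]
      rw [MonoidHom.map_closure, closure_le]
      rintro _ ⟨_, ⟨a, ha, y, hy, rfl⟩, rfl⟩
      exact h.le_lowerCentralSeries_succ ih (mem_map_of_mem _ hy) ha
  have := h.pT.isNilpotent
  obtain ⟨n, hn⟩ := (Subgroup.isNilpotent_iff_lowerCentralSeries T).mp this
  refine ⟨n, ?_⟩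
  have := key n
  rw [hn, le_bot_iff, map_eq_bot_iff_of_injective _ L.Y.subtype_injective] at this
  exact this

theorem le_Cn_sup {n : ℕ} (hne : ¬ Cn L A x (n + 1) ≤ P) : A ≤ Cn L A x (n + 1) ⊔ P := by
  classical
  set N := (K L A x 1).map L.Y.subtype with hN
  have hNc : ∀ u ∈ N, ∀ v ∈ N, u * v = v * u := by
    rintro _ ⟨u, hu, rfl⟩ _ ⟨v, hv, rfl⟩
    exact L.commute_of_β (hk.β_W1_W2 (hk.K_W 1 u hu).1 ((hk.K_W 1 v hv).2 one_pos))
  have hNP : N ≤ P := (map_subtype_le _).trans L.leP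
  set target := (K L A x (n + 1)).map L.Y.subtype ⊔ N ⊓ A with htarget
  have hall : ∀ s : Finset L.Y, (∀ y ∈ s, y ∈ K L A x n) →
      ∃ N', Good A N N' ∧ N' ≤ target ∧ ∀ y ∈ s, dSub A (y : G) ≤ N' := by
    intro s
    induction s using Finset.induction_on with
    | empty => exact fun _ => ⟨_, h.good_bot N, le_sup_right, by simp⟩
    | insert y s _ ih =>
      intro hs
      obtain ⟨N', hg, hle, hall⟩ := ih fun z hz => hs z (Finset.mem_insert_of_mem hz)
      have hy := hs y (Finset.mem_insert_self y s)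
      have hd : dSub A (y : G) ≤ (K L A x (n + 1)).map L.Y.subtype := by
        rw [dSub, closure_le]
        rintro _ ⟨a, ha, rfl⟩
        exact ⟨L.da a y, da_mem_K ha hy, rfl⟩
      have hdN : dSub A (y : G) ≤ N := hd.trans (map_mono (hk.K_succ_le_one n))
      refine ⟨N' ⊔ (dSub A (y : G) ⊔ N ⊓ A),
        h.good_sup hNc (hNP.trans h.Ple) hg (h.good_dSub hNc hdN),
        sup_le hle (sup_le (hd.trans le_sup_left) le_sup_right), fun z hz => ?_⟩
      rcases Finset.mem_insert.mp hz with rfl | hz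
      · exact le_sup_of_le_right le_sup_left
      · exact (hall z hz).trans le_sup_left
  obtain ⟨N', hg, hle, hcov⟩ := hall (Set.toFinite (K L A x n : Set L.Y)).toFinset (fun y hy => by simpa using hy)
  have hge : (K L A x (n + 1)).map L.Y.subtype ≤ N' := by
    conv_lhs => rw [K]
    rw [MonoidHom.map_closure, closure_le]
    rintro _ ⟨_, ⟨a, ha, y, hy, rfl⟩, rfl⟩
    exact hcov y (by simpa using hy) (subset_closure ⟨a, ha, rfl⟩)
  have heq : A ⊓ centralizer (N' : Set G) = Cn L A x (n + 1) := by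
    refine le_antisymm (inf_le_inf_left A (centralizer_le hge)) (le_inf inf_le_left ?_)
    rw [le_centralizer_iff]
    refine hle.trans (sup_le (le_centralizer_iff.mp inf_le_right) fun u hu => ?_)
    exact mem_centralizer_iff.mpr fun v hv =>
      h.comm v (Subgroup.mem_inf.mp hv).1 u (Subgroup.mem_inf.mp hu).2
  rw [← heq] at hne ⊢
  exact h.supplement hNc hNP hg hne

theorem exists_rep {n : ℕ} (hne : ¬ Cn L A x (n + 1) ≤ P) {e : G} (he : e ∈ A) :
    ∃ c ∈ Cn L A x (n + 1), L.ρ e = L.ρ c := by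
  have hmemS := hk.le_Cn_sup h hne he
  have hS : Cn L A x (n + 1) ⊔ P ≤
      { carrier := {g | ∃ c ∈ Cn L A x (n + 1), L.ρ g = L.ρ c}
        one_mem' := ⟨1, one_mem _, rfl⟩
        mul_mem' := by
          rintro g g' ⟨c, hc, hgc⟩ ⟨c', hc', hgc'⟩
          exact ⟨c * c', mul_mem hc hc', by rw [map_mul, map_mul, hgc, hgc']⟩
        inv_mem' := by
          rintro g ⟨c, hc, hgc⟩
          refine ⟨c⁻¹, inv_mem hc, ?_⟩
          have h1 : L.ρ g⁻¹ * L.ρ g = 1 := by rw [← map_mul, inv_mul_cancel, map_one]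
          have h2 : L.ρ c * L.ρ c⁻¹ = 1 := by rw [← map_mul, mul_inv_cancel, map_one]
          rw [← mul_one (L.ρ g⁻¹), ← h2, ← mul_assoc, ← hgc, h1, one_mul] } :=
    sup_le (fun c hc => ⟨c, hc, rfl⟩) fun q hq => ⟨1, one_mem _, by rw [L.ρ_eq_one_of_mem hq, map_one]⟩
  exact hS hmemS

/-- **The key theorem.** -/
theorem t_t_t_eq_zero (hp5 : 5 ≤ p) {e b a : G} (he : e ∈ A) (hb : b ∈ A) (ha : a ∈ A) :
    L.t e (L.t b (L.t a (L.toV x))) = 0 := by
  classical
  have hex : ∃ n, ¬ Cn L A x (n + 1) ≤ P := by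
    obtain ⟨n, hn⟩ := hk.K_eventually h
    refine ⟨n, fun hle => h.not_le fun c hc => hle (mem_Cn.mpr ⟨hc, fun y hy => ?_⟩)⟩
    have hy' := hk.K_succ_le n hy
    rw [hn, mem_bot] at hy'
    rw [hy', L.da_one_right]
  have hρ : ∀ {g c : G} (v : L.V), L.ρ g = L.ρ c → L.t g v = L.t c v := fun {g c} v h => by
    rw [Sec.t, Sec.t, h]
  have hmain := Nat.find_spec hex
  cases hn : Nat.find hex with
  | zero =>
    rw [hn] at hmain
    obtain ⟨c, hc, hec⟩ := hk.exists_rep h hmain he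
    rw [hρ _ hec, ← L.toV_cm, ← L.toV_da, ← L.toV_da,
      (mem_Cn.mp hc).2 _ (da_mem_K hb (cm_mem_K ha)), L.toV_one]
  | succ m =>
    rw [hn] at hmain
    have hlow : Cn L A x (m + 1) ≤ P := not_not.mp (Nat.find_min hex (by omega))
    obtain ⟨b0, hb0, hbb0⟩ := hk.exists_rep h hmain hb
    rw [hρ _ hbb0]
    have hb0A : b0 ∈ A := (mem_Cn.mp hb0).1
    obtain ⟨c, hcA, d, hdA, hv⟩ := hk.exists_cm h hp5 ha hb0A
    set w := L.da b0 (L.cm x a) with hw
    set v : L.Y := (L.cm x c * L.ι (L.Γ x d))⁻¹ * w with hvdef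
    have hvA : (v : G) ∈ A := hv
    have hvfix : ∀ g ∈ A, g * (v : G) = v * g := fun g hg => h.comm g hg _ hvA
    have hwV : L.toV w ∈ Sec.W1 L A x := by
      rw [hw, L.toV_da, L.toV_cm]
      exact hk.W2_le (AddSubgroup.subset_closure ⟨b0, hb0A, a, ha, rfl⟩)
    -- the relation
    have hS : ∀ j, ∀ y ∈ K L A x j, ∃ y' ∈ K L A x (j + 1), ∃ η : L.Y, (η : G) ∈ L.Y0 ∧
        (∀ g ∈ A, g * (η : G) = η * g) ∧ (0 < j → η = 1) ∧ L.da c y = L.da b0 y' * η := by
      intro j
      induction j with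
      | zero =>
        intro y hy
        induction hy using closure_induction with
        | mem y hy =>
          obtain ⟨e', he', rfl⟩ := hy
          have hcme : L.cm x c = w * (v⁻¹ * (L.ι (L.Γ x d))⁻¹) := by
            rw [hvdef, mul_inv_rev, inv_inv, ← mul_assoc, ← mul_assoc, mul_inv_cancel, one_mul,
              mul_inv_cancel_right]
          refine ⟨L.da e' (L.cm x a), da_mem_K he' (cm_mem_K ha),
            L.ι (L.β (L.t e' (L.toV x)) (L.t c (L.toV x))) * L.ι (L.δ e' (-(L.Γ x d))),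
            mul_mem (L.ι_mem_Y0 _) (L.ι_mem_Y0 _), fun g hg => ?_, fun h0 => absurd h0 (lt_irrefl 0), ?_⟩
          · have h1 := L.commute_of_δ (hk.δ_ω hg he' hcA)
            have h2 := L.commute_of_δ (v := L.δ e' (-(L.Γ x d))) (g := g) (hk.hD g hg e' he' _)
            rw [Subgroup.coe_mul, ← mul_assoc, h1, mul_assoc, h2, ← mul_assoc]
          · -- symmetry
            have hr : L.da e' (v⁻¹ * (L.ι (L.Γ x d))⁻¹) = L.ι (L.δ e' (-(L.Γ x d))) := by
              apply Subtype.ext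
              rw [← L.ι_neg, L.coe_da, Subgroup.coe_mul, Subgroup.coe_inv]
              have hvinv : e' * (v : G)⁻¹ * e'⁻¹ = (v : G)⁻¹ := by
                rw [show e' * (v : G)⁻¹ * e'⁻¹ = (e' * (v : G) * e'⁻¹)⁻¹ by group, hvfix e' he',
                  mul_inv_cancel_right]
              calc ((v : G)⁻¹ * (L.ι (-(L.Γ x d)) : G))⁻¹ * (e' * ((v : G)⁻¹ * (L.ι (-(L.Γ x d)) : G)) * e'⁻¹)
                  = ((v : G)⁻¹ * (L.ι (-(L.Γ x d)) : G))⁻¹ *
                      ((e' * (v : G)⁻¹ * e'⁻¹) * (e' * (L.ι (-(L.Γ x d)) : G) * e'⁻¹)) := by group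
                _ = _ := by rw [hvinv, L.conj_ι']; group
            have hru : L.toV (v⁻¹ * (L.ι (L.Γ x d))⁻¹) = -L.toV v := by
              rw [L.toV_mul, L.toV_inv, L.toV_inv, L.toV_ι, neg_zero, add_zero]
            have hsym : L.da c (L.cm x e') =
                L.ι (L.β (L.t e' (L.toV x)) (L.t c (L.toV x))) * L.da e' (L.cm x c) := by
              apply Subtype.ext
              have e2 : (L.cm x c : G) * (c * L.cm x e' * c⁻¹) = L.cm x e' * (e' * L.cm x c * e'⁻¹) := by
                rw [← L.cm_mul, ← L.cm_mul, h.comm c hcA e' he']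
              have hm : (L.cm x e' : G) * L.cm x c =
                  (L.ι (L.β (L.t e' (L.toV x)) (L.t c (L.toV x))) : G) * (L.cm x c * L.cm x e') := by
                rw [← L.toV_cm, ← L.toV_cm]; exact L.mul_eq_β _ _
              rw [Subgroup.coe_mul, L.coe_da, L.coe_da, eq_inv_mul_iff_mul_eq.mpr e2,
                ← mul_assoc (L.cm x e' : G)⁻¹]
              have hm2 : (L.cm x e' : G)⁻¹ * (L.cm x c : G)⁻¹ * L.cm x e' * L.cm x c =
                  L.ι (L.β (L.t e' (L.toV x)) (L.t c (L.toV x))) := by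
                rw [mul_assoc _ (L.cm x e' : G), hm, L.ι_comm _ (mul_mem (L.cm x c).2 (L.cm x e').2),
                  ← mul_assoc, mul_assoc (L.cm x e' : G)⁻¹, ← mul_assoc ((L.cm x c : G)⁻¹),
                  inv_mul_cancel, one_mul, inv_mul_cancel, one_mul]
              rw [← hm2]; group
            rw [hsym, hcme, L.da_mul_right, hr, hw, hk.da_comm h he' hb0A
              (by rw [L.toV_cm]; exact AddSubgroup.subset_closure ⟨a, ha, rfl⟩)]
            apply Subtype.ext
            set u := L.da b0 (L.da e' (L.cm x a)) with hu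
            have hcom : ((v⁻¹ * (L.ι (L.Γ x d))⁻¹ : L.Y) : G)⁻¹ * (u : G) *
                (v⁻¹ * (L.ι (L.Γ x d))⁻¹ : L.Y) = u := by
              rw [L.conj_eq_mul_β, hru, map_neg, hu, L.toV_da, L.toV_da, L.toV_cm,
                L.β_skew, neg_neg, L.t_t b0 e' (L.t a (L.toV x)), map_sub, map_sub,
                hk.β_fixed_deg2 hvfix (mul_mem hb0A he') ha,
                hk.β_fixed_deg2 hvfix hb0A ha, hk.β_fixed_deg2 hvfix he' ha, sub_zero, sub_zero, L.ι_zero,
                Subgroup.coe_one, mul_one]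
            simp only [Subgroup.coe_mul, Subgroup.coe_inv] at hcom ⊢
            rw [hcom, ← mul_assoc, L.ι_comm _ u.2, mul_assoc]
        | one =>
          exact ⟨1, one_mem _, 1, one_mem _, fun g _ => by simp, fun _ => rfl,
            by simp [L.da_one_right]⟩
        | mul y z hy hz iy iz =>
          obtain ⟨y', hy', η, hη0, hηf, -, e1⟩ := iy
          obtain ⟨z', hz', ζ, hζ0, hζf, -, e2⟩ := iz
          refine ⟨y' * z', mul_mem hy' hz', η * ζ, mul_mem hη0 hζ0, fun g hg => ?_,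
            fun h0 => absurd h0 (lt_irrefl 0), ?_⟩
          · rw [Subgroup.coe_mul, ← mul_assoc, hηf g hg, mul_assoc, hζf g hg, ← mul_assoc]
          · rw [hk.da_hom hcA (hk.K_W 0 y hy).1 (hk.K_W 0 z hz).1, e1, e2,
              hk.da_hom hb0A (hk.K_W 1 y' hy').1 (hk.K_W 1 z' hz').1, mul_assoc, ← mul_assoc η,
              show η * L.da b0 z' = L.da b0 z' * η from
                Subtype.ext (L.central _ hη0 _ (L.da b0 z').2), mul_assoc, ← mul_assoc (L.da b0 y')]
        | inv y hy iy =>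
          obtain ⟨y', hy', η, hη0, hηf, -, e1⟩ := iy
          refine ⟨y'⁻¹, inv_mem hy', η⁻¹, inv_mem hη0, fun g hg => ?_,
            fun h0 => absurd h0 (lt_irrefl 0), ?_⟩
          · rw [Subgroup.coe_inv, mul_inv_eq_iff_eq_mul, mul_assoc, hηf g hg, inv_mul_cancel_left]
          · rw [hk.da_hom_inv hcA (hk.K_W 0 y hy).1, e1, hk.da_hom_inv hb0A (hk.K_W 1 y' hy').1,
              mul_inv_rev]
            exact Subtype.ext (L.central _ (inv_mem hη0) _ (inv_mem (L.da b0 y').2))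
      | succ j ih =>
        intro y hy
        suffices hsuff : ∃ y' ∈ K L A x (j + 1 + 1), L.da c y = L.da b0 y' by
          obtain ⟨y', hy', e1⟩ := hsuff
          exact ⟨y', hy', 1, one_mem _, fun g _ => by simp, fun _ => rfl, by rw [e1, mul_one]⟩
        induction hy using closure_induction with
        | mem y hy =>
          obtain ⟨f, hf, y0, hy0, rfl⟩ := hy
          obtain ⟨y', hy', η, hη0, hηf, -, e1⟩ := ih y0 hy0
          refine ⟨L.da f y', da_mem_K hf hy', ?_⟩
          rw [hk.da_comm h hcA hf (hk.K_W j y0 hy0).1, e1, L.da_mul_right,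
            hk.da_eq_one_of_fixed (hηf f hf), mul_one, hk.da_comm h hb0A hf (hk.K_W _ y' hy').1]
          apply Subtype.ext
          rw [Subgroup.coe_mul, Subgroup.coe_mul, Subgroup.coe_inv, mul_assoc,
            ← L.central _ hη0 _ (L.da f (L.da b0 y')).2, inv_mul_cancel_left]
        | one => exact ⟨1, one_mem _, by simp [L.da_one_right]⟩
        | mul y z hy hz iy iz =>
          obtain ⟨y', hy', e1⟩ := iy
          obtain ⟨z', hz', e2⟩ := iz
          exact ⟨y' * z', mul_mem hy' hz', by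
            rw [hk.da_hom hcA (hk.K_W (j + 1) y hy).1 (hk.K_W (j + 1) z hz).1, e1, e2,
              hk.da_hom hb0A (hk.K_W (j + 1 + 1) y' hy').1 (hk.K_W (j + 1 + 1) z' hz').1]⟩
        | inv y hy iy =>
          obtain ⟨y', hy', e1⟩ := iy
          exact ⟨y'⁻¹, inv_mem hy', by
            rw [hk.da_hom_inv hcA (hk.K_W (j + 1) y hy).1, e1, hk.da_hom_inv hb0A (hk.K_W (j + 1 + 1) y' hy').1]⟩
    have hcC : c ∈ Cn L A x (m + 1) := mem_Cn.mpr ⟨hcA, fun y hy => by
      obtain ⟨y', hy', η, -, -, hη1, e1⟩ := hS (m + 1) y hy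
      rw [e1, hη1 (Nat.succ_pos m), mul_one, (mem_Cn.mp hb0).2 y' hy']⟩
    have hc0 : L.t c (L.toV x) = 0 := by
      rw [Sec.t, L.ρ_eq_one_of_mem (hlow hcC), sub_self, LinearMap.zero_apply]
    have hwv : L.t b0 (L.t a (L.toV x)) = L.toV v := by
      rw [← L.toV_cm, ← L.toV_da, ← hw, hvdef, L.toV_mul, L.toV_inv, L.toV_mul, L.toV_cm, L.toV_ι,
        hc0, add_zero, neg_zero, zero_add]
    rw [hwv, ← L.toV_da, hk.da_eq_one_of_fixed (hvfix e he), L.toV_one]

end KeyHyp

end Sec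

end Cfsg.Agent.H30.JCore
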