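import Cfsg.Agent.H30.JCore.Core

/-!
Abelian subgroups of largest order outside a normal `p`-subgroup, with smallest image.
-/

set_option autoImplicit false
set_option linter.unusedSectionVars false

namespace Cfsg.Agent.H30.JCore

open Subgroup
open scoped commutatorElement

variable {p : ℕ} [hp : Fact p.Prime] {G : Type*} [Group G] [Finite G]

/-- `A` is an abelian subgroup of `T` of largest order, not inside `P`, with smallest image. -/
structure MinOutside (p : ℕ) {G : Type*} [Group G] (P T A : Subgroup G) : Prop where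
  pT : IsPGroup p T
  Ple : P ≤ T
  le : A ≤ T
  comm : ∀ a ∈ A, ∀ b ∈ A, a * b = b * a
  max : ∀ B : Subgroup G, B ≤ T → (∀ a ∈ B, ∀ b ∈ B, a * b = b * a) → Nat.card B ≤ Nat.card A
  min : ∀ B : Subgroup G, B ≤ T → (∀ a ∈ B, ∀ b ∈ B, a * b = b * a) →
    Nat.card A ≤ Nat.card B → B ≤ P ⊔ A → ¬ B ≤ P → A ≤ B ⊔ P
  not_le : ¬ A ≤ P

omit [Finite G] in
/-- The commutators of an element with `A` generate a subgroup. -/
def dSub (A : Subgroup G) (y : G) : Subgroup G :=
  closure ((fun a => y⁻¹ * (a * y * a⁻¹)) '' (A : Set G))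

omit [Finite G] in
theorem comm_closure {S : Set G} (h : ∀ a ∈ S, ∀ b ∈ S, a * b = b * a) :
    ∀ a ∈ closure S, ∀ b ∈ closure S, a * b = b * a := by
  have h1 : closure S ≤ centralizer ((closure S : Subgroup G) : Set G) := by
    rw [closure_le]
    intro b hb
    rw [SetLike.mem_coe, centralizer_closure, mem_centralizer_iff]
    exact fun a ha => h a ha b hb
  exact fun a ha b hb => (mem_centralizer_iff.mp (h1 ha) b hb).symm

omit [Finite G] in
theorem comm_of_mem_centralizer {H : Subgroup G} {g h : G} (hg : g ∈ centralizer (H : Set G))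
    (hh : h ∈ H) : h * g = g * h :=
  mem_centralizer_iff.mp hg h hh

variable {P T A : Subgroup G}

/-- `N'` carries an abelian competitor of the order of `A`. -/
def Good (A N N' : Subgroup G) : Prop :=
  N ⊓ A ≤ N' ∧ N' ≤ N ∧
    Nat.card A * Nat.card ↥(N ⊓ A) ≤ Nat.card N' * Nat.card ↥(A ⊓ centralizer (N' : Set G))

namespace MinOutside

variable (h : MinOutside p P T A)

include h

theorem mem_of_fixed {f : G} (hf : f ∈ T) (hc : ∀ a ∈ A, a * f = f * a) : f ∈ A := by
  have hB : ∀ a ∈ A ⊔ zpowers f, ∀ b ∈ A ⊔ zpowers f, a * b = b * a := by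
    refine comm_sup h.comm (fun a ha b hb => ?_) (fun a ha b hb => ?_)
    · obtain ⟨i, rfl⟩ := mem_zpowers_iff.mp ha
      obtain ⟨j, rfl⟩ := mem_zpowers_iff.mp hb
      exact ((Commute.refl f).zpow_zpow i j).eq
    · obtain ⟨j, rfl⟩ := mem_zpowers_iff.mp hb
      exact (Commute.zpow_right (hc a ha) j).eq
  have heq := eq_of_le_of_card_ge (le_sup_left : A ≤ A ⊔ zpowers f)
    (h.max _ (sup_le h.le (zpowers_le.mpr hf)) hB)
  exact heq.ge (mem_sup_right (mem_zpowers f))

/-- The commutators of one element give a competitor. -/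
theorem card_dSub (y : G) (hcomm : ∀ u ∈ dSub A y, ∀ v ∈ dSub A y, u * v = v * u) :
    Nat.card A * Nat.card ↥(dSub A y ⊓ A) ≤
      Nat.card (dSub A y) * Nat.card ↥(A ⊓ centralizer (dSub A y : Set G)) := by
  classical
  set K := dSub A y
  set C := A ⊓ centralizer (K : Set G)
  let dd : G → G := fun a => y⁻¹ * (a * y * a⁻¹)
  have hdd : ∀ a ∈ A, dd a ∈ K := fun a ha => subset_closure ⟨a, ha, rfl⟩
  have hcoc : ∀ a b : G, dd (a * b) = dd a * (a * dd b * a⁻¹) := fun a b => by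
    simp only [dd]; group
  let φ : A → K ⧸ (K ⊓ A).subgroupOf K := fun a => ((⟨dd a, hdd _ a.2⟩ : K) : K ⧸ _)
  have hfib : ∀ a a' : A, φ a = φ a' → (a : G)⁻¹ * a' ∈ C := by
    intro a a' hφ
    have h1 := (mem_subgroupOf.mp (QuotientGroup.eq.mp hφ))
    have h2 : (dd a)⁻¹ * dd a' ∈ A := (Subgroup.mem_inf.mp h1).2
    set a'' : G := (a : G)⁻¹ * a' with ha''
    have ha''A : a'' ∈ A := mul_mem (inv_mem a.2) a'.2
    have e : dd a' = dd a * ((a : G) * dd a'' * (a : G)⁻¹) := by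
      rw [← hcoc, ha'', mul_inv_cancel_left]
    rw [e, inv_mul_cancel_left] at h2
    have huA : dd a'' ∈ A := by
      have := mul_mem (mul_mem (inv_mem a.2) h2) a.2
      simpa [mul_assoc] using this
    refine Subgroup.mem_inf.mpr ⟨ha''A, ?_⟩
    rw [show K = closure (dd '' (A : Set G)) from rfl, centralizer_closure, mem_centralizer_iff]
    rintro _ ⟨a1, ha1, rfl⟩
    have e1 := hcoc a'' a1
    rw [h.comm a'' ha''A a1 ha1, hcoc a1 a'', h.comm a1 ha1 _ huA, mul_inv_cancel_right,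
      hcomm _ (hdd a1 ha1) _ (hdd a'' ha''A)] at e1
    have e3 := (mul_left_cancel e1).symm
    rw [mul_inv_eq_iff_eq_mul] at e3
    exact e3.symm
  let sel : K ⧸ (K ⊓ A).subgroupOf K → A := Function.invFun φ
  have hsel : ∀ a, φ (sel (φ a)) = φ a := fun a => Function.invFun_eq ⟨a, rfl⟩
  have hle : Nat.card A ≤ Nat.card (K ⧸ (K ⊓ A).subgroupOf K) * Nat.card C := by
    rw [← Nat.card_prod]
    refine Nat.card_le_card_of_injective
      (fun a : A => (φ a, (⟨((sel (φ a) : A) : G)⁻¹ * a, hfib _ _ (hsel a)⟩ : C))) fun a b hab => ?_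
    simp only [Prod.mk.injEq, Subtype.mk.injEq] at hab
    rw [hab.1] at hab
    exact Subtype.ext (mul_left_cancel hab.2)
  rw [Subgroup.card_eq_card_quotient_mul_card_subgroup ((K ⊓ A).subgroupOf K),
    Nat.card_congr (subgroupOfEquivOfLe (inf_le_left : K ⊓ A ≤ K)).toEquiv]
  calc Nat.card A * Nat.card ↥(K ⊓ A)
      ≤ (Nat.card (K ⧸ (K ⊓ A).subgroupOf K) * Nat.card C) * Nat.card ↥(K ⊓ A) :=
        Nat.mul_le_mul_right _ hle
    _ = _ := by ring

theorem good_bot (N : Subgroup G) : Good A N (N ⊓ A) := by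
  refine ⟨le_rfl, inf_le_left, ?_⟩
  have hc : A ⊓ centralizer ((N ⊓ A : Subgroup G) : Set G) = A :=
    inf_eq_left.mpr fun a ha => mem_centralizer_iff.mpr fun b hb => h.comm b (Subgroup.mem_inf.mp hb).2 a ha
  rw [hc, mul_comm]

theorem good_dSub {N : Subgroup G} (hN : ∀ u ∈ N, ∀ v ∈ N, u * v = v * u) {y : G}
    (hy : dSub A y ≤ N) : Good A N (dSub A y ⊔ N ⊓ A) := by
  refine ⟨le_sup_right, sup_le hy inf_le_left, ?_⟩
  have h1 := h.card_dSub y fun u hu v hv => hN u (hy hu) v (hy hv)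
  have hcen : A ⊓ centralizer ((dSub A y : Subgroup G) : Set G) ≤
      A ⊓ centralizer ((dSub A y ⊔ N ⊓ A : Subgroup G) : Set G) := by
    refine le_inf inf_le_left ?_
    rw [le_centralizer_iff]
    exact sup_le (le_centralizer_iff.mp inf_le_right)
      fun v hv => mem_centralizer_iff.mpr fun u hu =>
        h.comm u (Subgroup.mem_inf.mp hu).1 v (Subgroup.mem_inf.mp hv).2
  have h2 := card_mul_card_le (dSub A y) (N ⊓ A)
  have he : dSub A y ⊓ (N ⊓ A) = dSub A y ⊓ A := by rw [← inf_assoc, inf_eq_left.mpr hy]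
  rw [he] at h2
  refine Nat.le_of_mul_le_mul_right ?_ (Nat.card_pos (α := ↥(dSub A y ⊓ A)))
  calc Nat.card A * Nat.card ↥(N ⊓ A) * Nat.card ↥(dSub A y ⊓ A)
      = Nat.card A * Nat.card ↥(dSub A y ⊓ A) * Nat.card ↥(N ⊓ A) := by ring
    _ ≤ Nat.card (dSub A y) * Nat.card ↥(A ⊓ centralizer (dSub A y : Set G)) * Nat.card ↥(N ⊓ A) :=
        Nat.mul_le_mul_right _ h1
    _ = Nat.card (dSub A y) * Nat.card ↥(N ⊓ A) * Nat.card ↥(A ⊓ centralizer (dSub A y : Set G)) := by
        ring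
    _ ≤ Nat.card ↥(dSub A y ⊔ N ⊓ A) * Nat.card ↥(dSub A y ⊓ A) *
          Nat.card ↥(A ⊓ centralizer ((dSub A y ⊔ N ⊓ A : Subgroup G) : Set G)) :=
        Nat.mul_le_mul h2 (card_le_of_le hcen)
    _ = _ := by ring

theorem good_sup {N N1 N2 : Subgroup G} (hN : ∀ u ∈ N, ∀ v ∈ N, u * v = v * u) (hNT : N ≤ T)
    (h1 : Good A N N1) (h2 : Good A N N2) : Good A N (N1 ⊔ N2) := by
  obtain ⟨hI1, hN1, hc1⟩ := h1
  obtain ⟨hI2, hN2, hc2⟩ := h2
  refine ⟨hI1.trans le_sup_left, sup_le hN1 hN2, ?_⟩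
  set C1 := A ⊓ centralizer (N1 : Set G) with hC1
  set C2 := A ⊓ centralizer (N2 : Set G) with hC2
  set C12 := A ⊓ centralizer ((N1 ⊔ N2 : Subgroup G) : Set G) with hC12
  set I := N ⊓ A
  have hCinf : C1 ⊓ C2 ≤ C12 := by
    refine le_inf (inf_le_left.trans inf_le_left) ?_
    rw [le_centralizer_iff]
    exact sup_le (le_centralizer_iff.mp (inf_le_left.trans inf_le_right))
      (le_centralizer_iff.mp (inf_le_right.trans inf_le_right))
  have hX : ∀ a ∈ (N1 ⊓ N2) ⊔ (C1 ⊔ C2), ∀ b ∈ (N1 ⊓ N2) ⊔ (C1 ⊔ C2), a * b = b * a := by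
    refine comm_sup (fun a ha b hb => hN a (hN1 (Subgroup.mem_inf.mp ha).1) b (hN1 (Subgroup.mem_inf.mp hb).1))
      (fun a ha b hb => h.comm a ((sup_le inf_le_left inf_le_left : C1 ⊔ C2 ≤ A) ha) b
        ((sup_le inf_le_left inf_le_left : C1 ⊔ C2 ≤ A) hb)) fun a ha b hb => ?_
    have : C1 ⊔ C2 ≤ centralizer ({a} : Set G) := sup_le
      (inf_le_right.trans (centralizer_le (Set.singleton_subset_iff.mpr (Subgroup.mem_inf.mp ha).1)))
      (inf_le_right.trans (centralizer_le (Set.singleton_subset_iff.mpr (Subgroup.mem_inf.mp ha).2)))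
    exact mem_centralizer_iff.mp (this hb) a rfl
  have hXc : Nat.card ↥(N1 ⊓ N2) * Nat.card ↥(C1 ⊔ C2) ≤ Nat.card A * Nat.card I := by
    refine (card_mul_card_le _ _).trans (Nat.mul_le_mul (h.max _ ?_ hX) (card_le_of_le ?_))
    · exact sup_le ((inf_le_left.trans hN1).trans hNT) ((sup_le inf_le_left inf_le_left).trans h.le)
    · exact inf_le_inf (inf_le_left.trans hN1) (sup_le inf_le_left inf_le_left)
  have hkey : (Nat.card A * Nat.card I) * (Nat.card A * Nat.card I) ≤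
      (Nat.card ↥(N1 ⊔ N2) * Nat.card C12) * (Nat.card A * Nat.card I) := by
    calc (Nat.card A * Nat.card I) * (Nat.card A * Nat.card I)
        ≤ (Nat.card N1 * Nat.card C1) * (Nat.card N2 * Nat.card C2) := Nat.mul_le_mul hc1 hc2
      _ = (Nat.card N1 * Nat.card N2) * (Nat.card C1 * Nat.card C2) := by ring
      _ ≤ (Nat.card ↥(N1 ⊔ N2) * Nat.card ↥(N1 ⊓ N2)) * (Nat.card ↥(C1 ⊔ C2) * Nat.card C12) :=
          Nat.mul_le_mul (card_mul_card_le _ _)
            ((card_mul_card_le _ _).trans (Nat.mul_le_mul_left _ (card_le_of_le hCinf)))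
      _ = (Nat.card ↥(N1 ⊔ N2) * Nat.card C12) * (Nat.card ↥(N1 ⊓ N2) * Nat.card ↥(C1 ⊔ C2)) := by
          ring
      _ ≤ _ := Nat.mul_le_mul_left _ hXc
  exact Nat.le_of_mul_le_mul_right hkey (Nat.mul_pos Nat.card_pos Nat.card_pos)

theorem card_competitor {N N' : Subgroup G} (hg : Good A N N') :
    Nat.card A ≤ Nat.card ↥(N' ⊔ A ⊓ centralizer (N' : Set G)) := by
  obtain ⟨-, hN', hc⟩ := hg
  refine Nat.le_of_mul_le_mul_right ?_ (Nat.card_pos (α := ↥(N ⊓ A)))
  exact hc.trans ((card_mul_card_le _ _).trans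
    (Nat.mul_le_mul_left _ (card_le_of_le (inf_le_inf hN' inf_le_left))))

theorem supplement {N N' : Subgroup G} (hN : ∀ u ∈ N, ∀ v ∈ N, u * v = v * u) (hNP : N ≤ P)
    (hg : Good A N N') (hne : ¬ A ⊓ centralizer (N' : Set G) ≤ P) :
    A ≤ (A ⊓ centralizer (N' : Set G)) ⊔ P := by
  have hN'P : N' ≤ P := hg.2.1.trans hNP
  refine (h.min (N' ⊔ A ⊓ centralizer (N' : Set G)) (sup_le (hN'P.trans h.Ple) (inf_le_left.trans h.le))
    ?_ (h.card_competitor hg) (sup_le (hN'P.trans le_sup_left) (inf_le_left.trans le_sup_right))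
    fun hle => hne (le_sup_right.trans hle)).trans
      (sup_le (sup_le (hN'P.trans le_sup_right) le_sup_left) le_sup_right)
  exact comm_sup (fun u hu v hv => hN u (hg.2.1 hu) v (hg.2.1 hv))
    (fun u hu v hv => h.comm u (Subgroup.mem_inf.mp hu).1 v (Subgroup.mem_inf.mp hv).1)
    (fun u hu v hv => comm_of_mem_centralizer (Subgroup.mem_inf.mp hv).2 hu)

omit [Finite G] in
theorem le_lowerCentralSeries_succ {K : Subgroup G} {n : ℕ} (hK : K ≤ T.lowerCentralSeries n)
    {y a : G} (hy : y ∈ K) (ha : a ∈ A) : y⁻¹ * (a * y * a⁻¹) ∈ T.lowerCentralSeries (n + 1) := by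
  have h1 : ⁅y⁻¹, a⁆ ∈ T.lowerCentralSeries (n + 1) :=
    commutator_mem_commutator (inv_mem (hK hy)) (h.le ha)
  simpa [commutatorElement_def, mul_assoc] using h1

/-- `A` acts quadratically on abelian normal subgroups centralised by `P`. -/
theorem quadratic {D : Subgroup G} [D.Normal] (hDP : D ≤ P) (hD : ∀ d ∈ D, ∀ x ∈ P, d * x = x * d)
    {d a b : G} (hd : d ∈ D) (ha : a ∈ A) (hb : b ∈ A) :
    b * (d⁻¹ * (a * d * a⁻¹)) = (d⁻¹ * (a * d * a⁻¹)) * b := by
  set K := dSub A d with hK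
  have hKD : K ≤ D := by
    rw [hK, dSub, closure_le]
    rintro _ ⟨e, -, rfl⟩
    exact mul_mem (inv_mem hd) (Normal.conj_mem inferInstance d hd e)
  have hKc : ∀ u ∈ K, ∀ v ∈ K, u * v = v * u := fun u hu v hv => hD u (hKD hu) v (hDP (hKD hv))
  set C := A ⊓ centralizer (K : Set G) with hC
  have hgood : Good A K K := ⟨inf_le_left, le_rfl, h.card_dSub d hKc⟩
  by_cases hne : C ≤ P
  · exfalso
    set X := K ⊔ C with hX
    have hXc : ∀ u ∈ X, ∀ v ∈ X, u * v = v * u := comm_sup hKc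
      (fun u hu v hv => h.comm u (Subgroup.mem_inf.mp hu).1 v (Subgroup.mem_inf.mp hv).1)
      (fun u hu v hv => comm_of_mem_centralizer (Subgroup.mem_inf.mp hv).2 hu)
    have hXP : X ≤ P := sup_le (hKD.trans hDP) hne
    have hX' : ∀ u ∈ X ⊔ zpowers d, ∀ v ∈ X ⊔ zpowers d, u * v = v * u := by
      refine comm_sup hXc (fun u hu v hv => ?_) (fun u hu v hv => ?_)
      · exact hD u (zpowers_le.mpr hd hu) v (hDP (zpowers_le.mpr hd hv))
      · exact (hD v (zpowers_le.mpr hd hv) u (hXP hu)).symm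
    have heq := eq_of_le_of_card_ge (le_sup_left : X ≤ X ⊔ zpowers d)
      ((h.max _ ((sup_le hXP (zpowers_le.mpr (hDP hd))).trans h.Ple) hX').trans
        (h.card_competitor hgood))
    have hdX : d ∈ X := heq.ge (mem_sup_right (mem_zpowers d))
    have hCK : C ≤ normalizer (K : Set G) := inf_le_right.trans (centralizer_le_normalizer _)
    obtain ⟨k, hk, c, hc, hkc⟩ : ∃ k ∈ K, ∃ c ∈ C, k * c = d := by
      have h0 : (d : G) ∈ ((C ⊔ K : Subgroup G) : Set G) := by rw [sup_comm]; exact hdX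
      rw [coe_mul_of_left_le_normalizer_right C K hCK] at h0
      obtain ⟨c, hc, k, hk, he⟩ := Set.mem_mul.mp h0
      exact ⟨k, hk, c, hc, (comm_of_mem_centralizer (Subgroup.mem_inf.mp hc).2 hk).trans he⟩
    have hcD : c ∈ D := by
      have : c = k⁻¹ * d := by rw [← hkc, inv_mul_cancel_left]
      rw [this]; exact mul_mem (inv_mem (hKD hk)) hd
    have hlcs : ∀ n, K ≤ T.lowerCentralSeries n := by
      intro n
      induction n with
      | zero => exact (hKD.trans hDP).trans h.Ple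
      | succ n ih =>
        rw [hK, dSub, closure_le]
        rintro _ ⟨e, he, rfl⟩
        have e1 : d⁻¹ * (e * d * e⁻¹) = k⁻¹ * (e * k * e⁻¹) := by
          rw [← hkc, show e * (k * c) * e⁻¹ = (e * k * e⁻¹) * (e * c * e⁻¹) by group,
            h.comm e he c (Subgroup.mem_inf.mp hc).1, mul_inv_cancel_right, mul_inv_rev,
            mul_assoc, ← mul_assoc k⁻¹,
            ← hD c hcD _ (hDP (mul_mem (inv_mem (hKD hk)) (Normal.conj_mem inferInstance k (hKD hk) e))),
            inv_mul_cancel_left]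
        change d⁻¹ * (e * d * e⁻¹) ∈ _
        rw [e1]
        exact h.le_lowerCentralSeries_succ ih hk he
    have := h.pT.isNilpotent
    obtain ⟨n, hn⟩ := (Subgroup.isNilpotent_iff_lowerCentralSeries T).mp this
    have hK0 : K = ⊥ := le_bot_iff.mp (hn ▸ hlcs n)
    refine h.not_le (le_trans (fun e he => ?_) hne)
    refine Subgroup.mem_inf.mpr ⟨he, mem_centralizer_iff.mpr fun u hu => ?_⟩
    rw [mem_bot.mp (hK0.le hu), one_mul, mul_one]
  · have hle : A ≤ C ⊔ P := h.supplement hKc (hKD.trans hDP) hgood hne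
    have hcen : C ⊔ P ≤ centralizer (K : Set G) := sup_le inf_le_right
      fun x hx => mem_centralizer_iff.mpr fun u hu => hD u (hKD hu) x hx
    exact (comm_of_mem_centralizer (hcen (hle hb)) (subset_closure ⟨a, ha, rfl⟩)).symm

end MinOutside

end Cfsg.Agent.H30.JCore
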