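import Mathlib

/-!
A normal section `Y / Y₀` of a normal `p`-subgroup on which a `p'`-subgroup acts nontrivially,
as a module, with the commutator form.
-/

set_option autoImplicit false

namespace Cfsg.Agent.H30.JCore

open Subgroup
open scoped commutatorElement

variable {p : ℕ} [hp : Fact p.Prime] {G : Type*} [Group G]

/-- A normal elementary abelian section `Y / Y₀` centralised by `P`. -/
structure Fac (p : ℕ) {G : Type*} [Group G] (P : Subgroup G) where
  Y : Subgroup G
  Y0 : Subgroup G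
  normalY : Y.Normal
  normalY0 : Y0.Normal
  leP : Y ≤ P
  le : Y0 ≤ Y
  comm_mem : ∀ y ∈ Y, ∀ y' ∈ Y, ⁅y, y'⁆ ∈ Y0
  commP : ∀ x ∈ P, ∀ y ∈ Y, ⁅x, y⁆ ∈ Y0
  pow_mem : ∀ y ∈ Y, y ^ p ∈ Y0

/-- A section as above with `Y₀` central in `Y` and the derived subgroup centralised by `P`. -/
structure Sec (p : ℕ) {G : Type*} [Group G] (P : Subgroup G) extends Fac p P where
  central : ∀ z ∈ Y0, ∀ y ∈ Y, z * y = y * z
  commD : ∀ d ∈ ⁅Y, Y⁆, ∀ x ∈ P, d * x = x * d
  powD : ∀ d ∈ ⁅Y, Y⁆, d ^ p = 1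

/-- A minimal normal layer of `P` moved by `Q`. -/
structure Layer (p : ℕ) {G : Type*} [Group G] (P Q : Subgroup G) extends Sec p P where
  moves : ∃ t ∈ Q, ∃ y ∈ Y, ⁅t, y⁆ ∉ Y0

/-- In a `p`-group, commutation with the whole group shrinks a nontrivial subgroup. -/
theorem commutator_ne_of_isPGroup [Finite G] {P Y : Subgroup G} (hP : IsPGroup p P) (hY : Y ≤ P)
    (hne : Y ≠ ⊥) : ⁅Y, P⁆ ≠ Y := by
  intro he
  have := hP.isNilpotent
  have key : ∀ n, Y ≤ P.lowerCentralSeries n := by
    intro n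
    induction n with
    | zero => exact hY
    | succ n ih => exact he.ge.trans (commutator_mono ih le_rfl)
  obtain ⟨n, hn⟩ := (Subgroup.isNilpotent_iff_lowerCentralSeries P).mp this
  exact hne (le_bot_iff.mp (hn ▸ key n))

/-- Existence of a layer. -/
theorem exists_layer [Finite G] {P Q : Subgroup G} [P.Normal] (hP : IsPGroup p P)
    (hQ : ∀ s ∈ Q, (orderOf s).Coprime p) (hne : ¬ P ≤ centralizer (Q : Set G)) :
    Nonempty (Layer p P Q) := by
  classical
  set L := normalClosure (Q : Set G) with hL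
  have hQL : Q ≤ L := le_normalClosure
  have hCL : ∀ N : Subgroup G, N.Normal → N ≤ centralizer (Q : Set G) → N ≤ centralizer (L : Set G) := by
    intro N hN h
    rw [le_centralizer_iff]
    exact normalClosure_le_normal (le_centralizer_iff.mp h)
  obtain ⟨Y, hYmem, hYmin⟩ := (Set.toFinite {N : Subgroup G | N.Normal ∧ N ≤ P ∧
    ¬ N ≤ centralizer (L : Set G)}).exists_minimal
      ⟨P, ‹P.Normal›, le_rfl, fun h => hne (h.trans (centralizer_le hQL))⟩
  obtain ⟨hYn, hYP, hYL⟩ := hYmem
  have hYne : Y ≠ ⊥ := fun h => hYL (h ▸ bot_le)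
  have hsmall : ∀ N : Subgroup G, N.Normal → N ≤ Y → N ≠ Y → N ≤ Y ⊓ centralizer (L : Set G) := by
    intro N hN hle hne'
    refine le_inf hle ?_
    by_contra h
    exact hne' (le_antisymm hle (hYmin ⟨hN, hle.trans hYP, h⟩ hle))
  set Y0 := Y ⊓ centralizer (L : Set G) with hY0
  have hY0ne : Y0 ≠ Y := fun h => hYL (h ▸ inf_le_right)
  have hY0L : ⁅L, Y0⁆ = ⊥ := by
    rw [commutator_eq_bot_iff_le_centralizer, le_centralizer_iff]; exact inf_le_right
  have hYL' : ⁅Y, L⁆ = Y := by
    by_contra h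
    have h1 := hsmall _ inferInstance (commutator_le_left _ _) h
    refine hYL (hCL Y hYn fun y hy => mem_centralizer_iff.mpr fun t ht => ?_)
    set u := ⁅y, t⁆ with hu
    have huC : Commute u t :=
      (mem_centralizer_iff.mp (h1 (commutator_mem_commutator hy (hQL ht))).2 t (hQL ht)).symm
    have hupow : u ^ orderOf t = 1 := by
      have e : (u * t) ^ orderOf t = 1 := by
        rw [hu, commutatorElement_def, inv_mul_cancel_right, conj_pow, pow_orderOf_eq_one, mul_one,
          mul_inv_cancel]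
      rwa [huC.mul_pow, pow_orderOf_eq_one, mul_one] at e
    have huP : u ∈ P := hYP (commutator_le_left Y L (commutator_mem_commutator hy (hQL ht)))
    obtain ⟨a, ha⟩ := hP ⟨u, huP⟩
    have ha' : u ^ p ^ a = 1 := by simpa using congrArg Subtype.val ha
    have h2 := pow_gcd_eq_one.mpr ⟨hupow, ha'⟩
    rw [((hQ t ht).pow_right a).gcd_eq_one, pow_one] at h2
    have h3 := commutatorElement_eq_one_iff_mul_comm.mp (hu.symm.trans h2)
    exact h3.symm
  have hYY : ⁅Y, Y⁆ ≤ Y0 := hsmall _ inferInstance (commutator_le_left _ _) fun h =>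
    commutator_ne_of_isPGroup hP hYP hYne (le_antisymm (commutator_le_left _ _)
      (h.ge.trans (commutator_mono le_rfl hYP)))
  have hYP0 : ⁅Y, P⁆ ≤ Y0 := hsmall _ inferInstance (commutator_le_left _ _)
    (commutator_ne_of_isPGroup hP hYP hYne)
  have hcentral : ⁅Y, Y0⁆ = ⊥ := by
    have h := commutator_commutator_eq_bot_of_rotate (H₁ := Y) (H₂ := L) (H₃ := Y0)
      (by rw [hY0L, commutator_bot_left])
      (by
        rw [commutator_eq_bot_iff_le_centralizer]
        exact ((commutator_comm Y0 Y).le.trans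
          ((commutator_mono le_rfl inf_le_left).trans hYY)).trans inf_le_right)
    rwa [hYL'] at h
  have hcen : ∀ z ∈ Y0, ∀ y ∈ Y, z * y = y * z := fun z hz y hy =>
    mem_centralizer_iff.mp ((commutator_eq_bot_iff_le_centralizer.mp hcentral) hy) z hz
  have hY0n : Y0.Normal := by rw [hY0]; infer_instance
  have hDP : ⁅⁅Y, Y⁆, P⁆ = ⊥ := by
    refine commutator_commutator_eq_bot_of_rotate ?_ ?_
    · rw [eq_bot_iff]
      refine (commutator_mono hYP0 le_rfl).trans ?_
      rw [commutator_comm, hcentral]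
    · rw [eq_bot_iff, commutator_comm P Y]
      refine (commutator_mono hYP0 le_rfl).trans ?_
      rw [commutator_comm, hcentral]
  have hpow : ∀ y ∈ Y, y ^ p ∈ Y0 := by
    -- the elements congruent to a `p`-th power
    have hexp : ∀ a ∈ Y, ∀ b ∈ Y, ((a * b) ^ p)⁻¹ * (a ^ p * b ^ p) ∈ Y0 := by
      intro a ha b hb
      rw [← QuotientGroup.eq, QuotientGroup.mk_pow, QuotientGroup.mk_mul, QuotientGroup.mk_mul,
        QuotientGroup.mk_pow, QuotientGroup.mk_pow, Commute.mul_pow]
      rw [Commute, SemiconjBy, ← QuotientGroup.mk_mul, ← QuotientGroup.mk_mul, QuotientGroup.eq]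
      have := hYY (commutator_mem_commutator (inv_mem hb) (inv_mem ha))
      simpa [commutatorElement_def, mul_assoc] using this
    let W : Subgroup G :=
      { carrier := {v | ∃ y ∈ Y, (y ^ p)⁻¹ * v ∈ Y0}
        one_mem' := ⟨1, one_mem _, by simp⟩
        mul_mem' := by
          rintro u v ⟨a, ha, hau⟩ ⟨b, hb, hbv⟩
          refine ⟨a * b, mul_mem ha hb, ?_⟩
          have h1 : (b ^ p)⁻¹ * ((a ^ p)⁻¹ * u) * b ^ p ∈ Y0 := by
            simpa using hY0n.conj_mem _ hau (b ^ p)⁻¹
          have := mul_mem (mul_mem (hexp a ha b hb) h1) hbv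
          simpa [mul_assoc] using this
        inv_mem' := by
          rintro u ⟨a, ha, hau⟩
          refine ⟨a⁻¹, inv_mem ha, ?_⟩
          have := hY0n.conj_mem _ (inv_mem hau) (a ^ p)
          simpa [mul_assoc] using this }
    have hWn : W.Normal := ⟨by
      rintro u ⟨a, ha, hau⟩ g
      refine ⟨g * a * g⁻¹, hYn.conj_mem _ ha g, ?_⟩
      have := hY0n.conj_mem _ hau g
      rw [conj_pow]
      simpa [mul_assoc] using this⟩
    have hWY : W ≤ Y := by
      rintro u ⟨a, ha, hau⟩
      have := mul_mem (pow_mem ha p) (inf_le_left (α := Subgroup G) hau)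
      simpa using this
    by_cases hW : W = Y
    · -- then the power map on `Y / Y₀` is bijective, impossible
      exfalso
      have : (Y0.subgroupOf Y).Normal := inferInstance
      let Qt := Y ⧸ Y0.subgroupOf Y
      have hpg : IsPGroup p Qt := (hP.to_le hYP).to_quotient _
      have hsurj : Function.Surjective (fun q : Qt => q ^ p) := by
        intro q
        obtain ⟨v, rfl⟩ := QuotientGroup.mk_surjective q
        have hvW : (v : G) ∈ W := hW.symm ▸ v.2
        obtain ⟨a, ha, hav⟩ := hvW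
        refine ⟨((⟨a, ha⟩ : Y) : Qt), ?_⟩
        change ((⟨a, ha⟩ : Y) : Qt) ^ p = _
        rw [← QuotientGroup.mk_pow, QuotientGroup.eq, mem_subgroupOf]
        simpa using hav
      have hinj := Finite.injective_iff_surjective.mpr hsurj
      have hnt : Nontrivial Qt := by
        by_contra hcon
        rw [not_nontrivial_iff_subsingleton] at hcon
        refine hY0ne (le_antisymm inf_le_left fun y hy => ?_)
        have := (QuotientGroup.eq_one_iff (N := Y0.subgroupOf Y) ⟨y, hy⟩).mp (Subsingleton.elim _ _)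
        exact this
      obtain ⟨m, hm, hcard⟩ := (IsPGroup.nontrivial_iff_card hpg).mp hnt
      obtain ⟨q, hq⟩ := exists_prime_orderOf_dvd_card' (G := Qt) p
        (hcard ▸ dvd_pow_self p (by omega))
      have : q = 1 := hinj (by simp only [one_pow]; rw [← hq, pow_orderOf_eq_one])
      rw [this, orderOf_one] at hq
      exact hp.out.one_lt.ne hq
    · intro y hy
      exact hsmall W hWn hWY hW ⟨y, hy, by simp⟩
  have hmoves : ∃ t ∈ Q, ∃ y ∈ Y, ⁅t, y⁆ ∉ Y0 := by
    by_contra hcon
    push Not at hcon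
    refine hYL (hCL Y hYn fun y hy => mem_centralizer_iff.mpr fun t ht => ?_)
    -- the element `⁅t, y⁆` is fixed by `t`
    set u := ⁅t, y⁆ with hu
    have huC : Commute u t :=
      ((mem_centralizer_iff.mp (hcon t ht y hy).2) t (hQL ht)).symm
    have hupow : u⁻¹ ^ orderOf t = 1 := by
      have e : (u⁻¹ * t) ^ orderOf t = 1 := by
        rw [hu, commutatorElement_inv, commutatorElement_def, inv_mul_cancel_right, conj_pow,
          pow_orderOf_eq_one, mul_one, mul_inv_cancel]
      rwa [huC.inv_left.mul_pow, pow_orderOf_eq_one, mul_one] at e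
    obtain ⟨a, ha⟩ := hP ⟨u⁻¹, inv_mem (hYP (hcon t ht y hy).1)⟩
    have ha' : u⁻¹ ^ p ^ a = 1 := by simpa using congrArg Subtype.val ha
    have h2 := pow_gcd_eq_one.mpr ⟨hupow, ha'⟩
    rw [((hQ t ht).pow_right a).gcd_eq_one, pow_one, inv_eq_one] at h2
    exact commutatorElement_eq_one_iff_mul_comm.mp (hu.symm.trans h2)
  have hDcomm : ∀ d ∈ ⁅Y, Y⁆, ∀ x ∈ P, d * x = x * d := fun d hd x hx =>
    (mem_centralizer_iff.mp ((commutator_eq_bot_iff_le_centralizer.mp hDP) hd) x hx).symm
  refine ⟨⟨⟨⟨Y, Y0, hYn, hY0n, hYP, inf_le_left, fun y hy y' hy' => hYY (commutator_mem_commutator hy hy'),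
    fun x hx y hy => hYP0 (commutator_comm Y P ▸ commutator_mem_commutator hx hy), hpow⟩, hcen,
    hDcomm, ?_⟩, hmoves⟩⟩
  have hsub : ⁅Y, Y⁆ ≤ Y := commutator_le_left _ _
  intro d hd
  suffices h : d ∈ Y0 ∧ d ^ p = 1 from h.2
  refine closure_induction ?_ ⟨one_mem _, one_pow p⟩ ?_ ?_ hd
  · rintro _ ⟨a, ha, b, hb, rfl⟩
    refine ⟨hYY (commutator_mem_commutator ha hb), ?_⟩
    have key : ∀ m : ℕ, ⁅a ^ m, b⁆ = ⁅a, b⁆ ^ m := by
      intro m
      induction m with
      | zero => simp [commutatorElement_def]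
      | succ m ih =>
        have hc : ⁅a ^ m, b⁆ * a = a * ⁅a ^ m, b⁆ :=
          hcen _ (hYY (commutator_mem_commutator (pow_mem ha m) hb)) a ha
        have e : ⁅a * a ^ m, b⁆ = a * ⁅a ^ m, b⁆ * a⁻¹ * ⁅a, b⁆ := by
          simp only [commutatorElement_def]; group
        rw [pow_succ' a, e, ← hc, mul_inv_cancel_right, ih, pow_succ]
    rw [← key, commutatorElement_eq_one_iff_mul_comm]
    exact hcen _ (hpow a ha) b hb
  · rintro u v _ _ ⟨hu, hu'⟩ ⟨hv, hv'⟩
    refine ⟨mul_mem hu hv, ?_⟩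
    rw [(show Commute u v from hcen u hu v (inf_le_left (α := Subgroup G) hv)).mul_pow, hu', hv', one_mul]
  · rintro u _ ⟨hu, hu'⟩
    exact ⟨inv_mem hu, by rw [inv_pow, hu', inv_one]⟩

end Cfsg.Agent.H30.JCore
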