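import Cfsg.Agent.H30.JCore.Descent

/-!
Commutators of length four with `A` vanish on a section; of length three on an abelian one.
-/

set_option autoImplicit false
set_option linter.unusedSectionVars false

namespace Cfsg.Agent.H30.JCore

open Subgroup
open scoped commutatorElement

variable {p : ℕ} [hp : Fact p.Prime] {G : Type*} [Group G] [Finite G]
variable {P T A : Subgroup G}

namespace Sec

variable {L : Sec p P}

theorem δ_δ (h : MinOutside p P T A) {a b : G} (ha : a ∈ A) (hb : b ∈ A) (v : Additive L.Dg) :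
    L.δ a (L.δ b v) = 0 := by
  haveI := L.normalY
  refine L.δ_eq_zero_of_commute ?_
  have h0 := h.quadratic (D := L.Dg) ((commutator_le_left L.Y L.Y).trans L.leP) L.commD
    (L.coe_ι_mem v) hb ha
  rwa [L.conj_ι' b v, inv_mul_cancel_left] at h0

/-- the iterated commutators of the section with `A` -/
def Vn (L : Sec p P) (A : Subgroup G) : ℕ → AddSubgroup L.V
  | 0 => ⊤
  | n + 1 => AddSubgroup.closure {w | ∃ a ∈ A, ∃ v ∈ Vn L A n, w = L.t a v}

theorem mem_Vn_succ {n : ℕ} {a : G} (ha : a ∈ A) {v : L.V} (hv : v ∈ Vn L A n) :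
    L.t a v ∈ Vn L A (n + 1) := AddSubgroup.subset_closure ⟨a, ha, v, hv, rfl⟩

theorem mem_Vn_zero (v : L.V) : v ∈ Vn L A 0 := AddSubgroup.mem_top v

theorem Vn_succ_le : ∀ n, Vn L A (n + 1) ≤ Vn L A n
  | 0 => le_top
  | n + 1 => AddSubgroup.closure_mono (by
      rintro _ ⟨a, ha, v, hv, rfl⟩; exact ⟨a, ha, v, Vn_succ_le n hv, rfl⟩)

theorem Vn_antitone {m n : ℕ} (hmn : m ≤ n) : Vn L A n ≤ Vn L A m :=
  (antitone_nat_of_succ_le (Vn_succ_le (L := L) (A := A))) hmn

theorem ρ_mem_Vn {n : ℕ} {a : G} (ha : a ∈ A) {v : L.V} (hv : v ∈ Vn L A n) :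
    L.ρ a v ∈ Vn L A n := by
  rw [L.ρ_apply]; exact add_mem hv (Vn_succ_le n (mem_Vn_succ ha hv))

theorem Vn_eventually (h : MinOutside p P T A) : ∃ n, Vn L A n = ⊥ := by
  have key : ∀ n, ∀ v ∈ Vn L A n, ∃ y : L.Y, (y : G) ∈ T.lowerCentralSeries n ∧ L.toV y = v := by
    intro n
    induction n with
    | zero =>
      intro v _
      obtain ⟨y, rfl⟩ := L.toV_surjective v
      exact ⟨y, h.Ple (L.leP y.2), rfl⟩
    | succ n ih =>
      intro v hv
      induction hv using AddSubgroup.closure_induction with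
      | mem v hv =>
        obtain ⟨a, ha, u, hu, rfl⟩ := hv
        obtain ⟨y, hy, rfl⟩ := ih u hu
        exact ⟨L.da a y, h.le_lowerCentralSeries_succ le_rfl hy ha, L.toV_da a y⟩
      | zero => exact ⟨1, one_mem _, L.toV_one⟩
      | add u v _ _ hu hv =>
        obtain ⟨y, hy, rfl⟩ := hu
        obtain ⟨z, hz, rfl⟩ := hv
        exact ⟨y * z, mul_mem hy hz, L.toV_mul y z⟩
      | neg v _ hv =>
        obtain ⟨y, hy, rfl⟩ := hv
        exact ⟨y⁻¹, inv_mem hy, L.toV_inv y⟩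
  have := h.pT.isNilpotent
  obtain ⟨n, hn⟩ := (Subgroup.isNilpotent_iff_lowerCentralSeries T).mp this
  refine ⟨n, eq_bot_iff.mpr fun v hv => ?_⟩
  obtain ⟨y, hy, rfl⟩ := key n v hv
  rw [hn, mem_bot] at hy
  rw [AddSubgroup.mem_bot, Fac.toV_eq_zero_iff, hy]
  exact one_mem _

theorem β_t_left (a : G) (u v : L.V) :
    L.β (L.t a u) v = L.δ a (L.β u (L.ρ a⁻¹ v)) + L.β u (L.t a⁻¹ v) := by
  have h1 : L.ρ a (L.ρ a⁻¹ v) = v := by
    rw [← Module.End.mul_apply, ← map_mul, mul_inv_cancel, map_one, Module.End.one_apply]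
  rw [δ, LinearMap.sub_apply, Module.End.one_apply, ← L.β_equivariant, h1, t, t,
    LinearMap.sub_apply, LinearMap.sub_apply, Module.End.one_apply, Module.End.one_apply, map_sub,
    map_sub, LinearMap.sub_apply]
  abel

theorem β_fixed_Vn_two (h : MinOutside p P T A) {f : L.Y} (hf : ∀ a ∈ A, a * (f : G) = f * a)
    {v : L.V} (hv : v ∈ Vn L A 2) : L.β (L.toV f) v = 0 := by
  have hf0 : ∀ a ∈ A, L.t a (L.toV f) = 0 := fun a ha => by
    rw [← L.toV_da, L.toV_eq_zero_iff, L.coe_da, hf a ha, mul_inv_cancel_right, inv_mul_cancel]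
    exact one_mem _
  have key : ∀ a ∈ A, ∀ w, L.β (L.toV f) (L.t a w) = L.δ a (L.β (L.toV f) w) := fun a ha w => by
    rw [L.δ_form, hf0 a ha]; simp
  induction hv using AddSubgroup.closure_induction with
  | mem v hv =>
    obtain ⟨a, ha, w, hw, rfl⟩ := hv
    rw [key a ha]
    induction hw using AddSubgroup.closure_induction with
    | mem w hw =>
      obtain ⟨b, hb, z, -, rfl⟩ := hw
      rw [key b hb, δ_δ h ha hb]
    | zero => rw [map_zero, map_zero]
    | add u w _ _ hu hw => rw [map_add, map_add, hu, hw, add_zero]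
    | neg w _ hw => rw [map_neg, map_neg, hw, neg_zero]
  | zero => rw [map_zero]
  | add u w _ _ hu hw => rw [map_add, hu, hw, add_zero]
  | neg w _ hw => rw [map_neg, hw, neg_zero]

variable {N : ℕ}

/-- Pairing of the iterated commutators. -/
theorem β_Vn (h : MinOutside p P T A) (hN : Vn L A N = ⊥) : ∀ i j : ℕ, ∀ u ∈ Vn L A i, ∀ v ∈ Vn L A j,
    (N ≤ i + j → ∀ e ∈ A, L.δ e (L.β u v) = 0) ∧ (N < i + j → L.β u v = 0) := by
  intro i
  induction i with
  | zero =>
    intro j u _ v hv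
    have h0 : N ≤ 0 + j → v = 0 := fun hj => by
      have := Vn_antitone (by omega : N ≤ j) hv
      rw [hN] at this; exact this
    exact ⟨fun hj e _ => by rw [h0 hj, map_zero, map_zero], fun hj => by rw [h0 hj.le, map_zero]⟩
  | succ i ih =>
    intro j u hu v hv
    induction hu using AddSubgroup.closure_induction with
    | mem u hu =>
      obtain ⟨a, ha, w, hw, rfl⟩ := hu
      have h1 := ih j w hw _ (ρ_mem_Vn (inv_mem ha) hv)
      have h2 := ih (j + 1) w hw _ (mem_Vn_succ (inv_mem ha) hv)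
      refine ⟨fun hij e he => ?_, fun hij => ?_⟩
      · rw [β_t_left, map_add, δ_δ h he ha, zero_add, h2.1 (by omega) e he]
      · rw [β_t_left, h1.1 (by omega) a ha, zero_add, h2.2 (by omega)]
    | zero => exact ⟨fun _ e _ => by simp, fun _ => by simp⟩
    | add u w _ _ hu hw =>
      exact ⟨fun hij e he => by rw [map_add, LinearMap.add_apply, map_add, hu.1 hij e he, hw.1 hij e he, add_zero],
        fun hij => by rw [map_add, LinearMap.add_apply, hu.2 hij, hw.2 hij, add_zero]⟩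
    | neg w _ hw =>
      exact ⟨fun hij e he => by rw [map_neg, LinearMap.neg_apply, map_neg, hw.1 hij e he, neg_zero],
        fun hij => by rw [map_neg, LinearMap.neg_apply, hw.2 hij, neg_zero]⟩

theorem Vn_three_add (i : ℕ) (H : ∀ v ∈ Vn L A i, ∀ e ∈ A, ∀ b ∈ A, ∀ a ∈ A,
    L.t e (L.t b (L.t a v)) = 0) : Vn L A (i + 3) = ⊥ := by
  rw [eq_bot_iff, Vn, AddSubgroup.closure_le]
  rintro _ ⟨e, he, w, hw, rfl⟩
  rw [SetLike.mem_coe, AddSubgroup.mem_bot]
  induction hw using AddSubgroup.closure_induction with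
  | mem w hw =>
    obtain ⟨b, hb, z, hz, rfl⟩ := hw
    induction hz using AddSubgroup.closure_induction with
    | mem z hz => obtain ⟨a, ha, v, hv, rfl⟩ := hz; exact H v hv e he b hb a ha
    | zero => simp
    | add u v _ _ hu hv => rw [map_add, map_add, hu, hv, add_zero]
    | neg v _ hv => rw [map_neg, map_neg, hv, neg_zero]
  | zero => simp
  | add u v _ _ hu hv => rw [map_add, hu, hv, add_zero]
  | neg v _ hv => rw [map_neg, hv, neg_zero]

/-- On an abelian section `A` acts cubically. -/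
theorem Vn_three_eq_bot_of_comm (h : MinOutside p P T A) (hp5 : 5 ≤ p)
    (hab : ∀ y ∈ L.Y, ∀ y' ∈ L.Y, y * y' = y' * y) : Vn L A 3 = ⊥ := by
  refine Vn_three_add 0 fun v _ e he b hb a ha => ?_
  obtain ⟨x, rfl⟩ := L.toV_surjective v
  have h0 : ∀ u w : L.V, L.β u w = 0 := fun u w => by
    obtain ⟨y, rfl⟩ := L.toV_surjective u
    obtain ⟨z, rfl⟩ := L.toV_surjective w
    exact L.β_eq_zero_of_commute (hab _ y.2 _ z.2)
  exact KeyHyp.t_t_t_eq_zero ⟨fun a ha b hb v => δ_δ h ha hb v, fun _ _ _ _ _ _ => h0 _ _,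
    fun _ _ _ _ _ _ => h0 _ _, fun _ _ _ _ => h0 _ _⟩ h hp5 he hb ha

theorem Vn_pred (h : MinOutside p P T A) (hp5 : 5 ≤ p) {m : ℕ} (hN : Vn L A (m + 6) = ⊥) :
    Vn L A (m + 2 + 3) = ⊥ := by
  refine Vn_three_add (m + 2) fun v hv e he b hb a ha => ?_
  obtain ⟨x, rfl⟩ := L.toV_surjective v
  refine KeyHyp.t_t_t_eq_zero ⟨fun a ha b hb v => δ_δ h ha hb v, fun a ha b hb c hc => ?_,
    fun a ha b hb c hc => ?_, fun f hf a ha => ?_⟩ h hp5 he hb ha
  · exact (β_Vn h hN _ _ _ (mem_Vn_succ ha hv) _ (mem_Vn_succ hb (mem_Vn_succ hc hv))).2 (by omega)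
  · exact (β_Vn h hN _ _ _ hv _ (mem_Vn_succ ha (mem_Vn_succ hb (mem_Vn_succ hc hv)))).2 (by omega)
  · exact β_fixed_Vn_two h hf (Vn_antitone (by omega) (mem_Vn_succ ha hv))

theorem Vn_four_of_five (h : MinOutside p P T A) (hp5 : 5 ≤ p) (hN : Vn L A 5 = ⊥) :
    Vn L A (1 + 3) = ⊥ := by
  have hflip : ∀ {i j : ℕ} {u v : L.V}, u ∈ Vn L A i → v ∈ Vn L A j → 3 ≤ i + j → ∀ {a e : G},
      a ∈ A → e ∈ A → L.δ e (L.β (L.t a u) v) = -L.δ e (L.β u (L.t a v)) := by
    intro i j u v hu hv hij a e ha he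
    have e1 : L.t a v + L.t a⁻¹ v + L.t a (L.t a⁻¹ v) = 0 := by
      rw [← L.t_mul, mul_inv_cancel, L.t_one]
    have e2 : L.t a⁻¹ v = -L.t a v - L.t a (L.t a⁻¹ v) := by
      rw [eq_sub_iff_add_eq, eq_neg_iff_add_eq_zero, ← e1]; abel
    rw [β_t_left, map_add, δ_δ h he ha, zero_add, e2, map_sub, map_sub, map_neg, map_neg,
      (β_Vn h hN _ _ _ hu _ (mem_Vn_succ ha (mem_Vn_succ (inv_mem ha) hv))).1 (by omega) e he,
      sub_zero]
  have hΦ : ∀ (z : L.V) {a b c d e : G}, a ∈ A → b ∈ A → c ∈ A → d ∈ A → e ∈ A →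
      L.δ e (L.β z (L.t b (L.t a (L.t c (L.t d z))))) = 0 := by
    intro z a b c d e ha hb hc hd he
    have hz : z ∈ Vn L A 0 := mem_Vn_zero z
    have e1 : L.δ e (L.β (L.t a (L.t b z)) (L.t c (L.t d z))) =
        L.δ e (L.β z (L.t b (L.t a (L.t c (L.t d z))))) := by
      rw [hflip (mem_Vn_succ hb hz) (mem_Vn_succ hc (mem_Vn_succ hd hz)) (by omega) ha he,
        hflip hz (mem_Vn_succ ha (mem_Vn_succ hc (mem_Vn_succ hd hz))) (by omega) hb he, neg_neg]
    have e2 : L.δ e (L.β (L.t c (L.t d z)) (L.t a (L.t b z))) =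
        L.δ e (L.β z (L.t b (L.t a (L.t c (L.t d z))))) := by
      rw [hflip (mem_Vn_succ hd hz) (mem_Vn_succ ha (mem_Vn_succ hb hz)) (by omega) hc he,
        hflip hz (mem_Vn_succ hc (mem_Vn_succ ha (mem_Vn_succ hb hz))) (by omega) hd he, neg_neg,
        L.t_comm (h.comm d hd c hc), L.t_comm (h.comm d hd a ha), L.t_comm (h.comm d hd b hb),
        L.t_comm (h.comm c hc a ha), L.t_comm (h.comm c hc b hb), L.t_comm (h.comm a ha b hb)]
    rw [L.β_skew, map_neg, e1] at e2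
    exact eq_zero_of_eq_neg hp5 e2.symm
  refine Vn_three_add 1 fun v hv e he b hb a ha => ?_
  induction hv using AddSubgroup.closure_induction with
  | mem v hv =>
    obtain ⟨u, hu, z, -, rfl⟩ := hv
    obtain ⟨x, hx⟩ := L.toV_surjective (L.t u z)
    have hz : z ∈ Vn L A 0 := mem_Vn_zero z
    have hψ : ∀ {a b c d : G}, a ∈ A → b ∈ A → c ∈ A → d ∈ A →
        L.β (L.t u z) (L.t a (L.t b (L.t c (L.t d z)))) = 0 := by
      intro a b c d ha hb hc hd
      have h4 := mem_Vn_succ ha (mem_Vn_succ hb (mem_Vn_succ hc (mem_Vn_succ hd hz)))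
      have h5 : L.t u⁻¹ (L.t a (L.t b (L.t c (L.t d z)))) = 0 := by
        have := mem_Vn_succ (inv_mem hu) h4
        rw [hN] at this; exact this
      rw [β_t_left, L.ρ_apply, h5, add_zero, map_zero, add_zero]
      exact hΦ z hb ha hc hd hu
    rw [← hx]
    refine KeyHyp.t_t_t_eq_zero ⟨fun a ha b hb v => δ_δ h ha hb v, fun a ha b hb c hc => ?_,
      fun a ha b hb c hc => ?_, fun f hf a ha => ?_⟩ h hp5 he hb ha
    · have h3 := mem_Vn_succ hb (mem_Vn_succ hc (mem_Vn_succ hu hz))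
      rw [hx, β_t_left, hψ (inv_mem ha) hb hc hu, add_zero, L.ρ_apply, map_add, map_add,
        (β_Vn h hN _ _ _ (mem_Vn_succ hu hz) _ (mem_Vn_succ (inv_mem ha) h3)).1 (by omega) a ha,
        add_zero, hflip hz h3 (by omega) hu ha, hΦ z hb hu hc hu ha, neg_zero]
    · rw [hx]; exact hψ ha hb hc hu
    · rw [hx]; exact β_fixed_Vn_two h hf (mem_Vn_succ ha (mem_Vn_succ hu hz))
  | zero => simp
  | add u v _ _ hu hv => rw [map_add, map_add, map_add, hu, hv, add_zero]
  | neg v _ hv => rw [map_neg, map_neg, map_neg, hv, neg_zero]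

/-- On every section commutators of length four with `A` vanish. -/
theorem Vn_four_eq_bot (h : MinOutside p P T A) (hp5 : 5 ≤ p) : Vn L A 4 = ⊥ := by
  classical
  have hex := Vn_eventually (L := L) h
  have hspec := Nat.find_spec hex
  rcases Nat.lt_trichotomy (Nat.find hex) 5 with hlt | heq | hgt
  · exact le_bot_iff.mp (hspec ▸ Vn_antitone (by omega : Nat.find hex ≤ 4))
  · rw [heq] at hspec
    exact Vn_four_of_five h hp5 hspec
  · obtain ⟨m, hm⟩ := Nat.exists_eq_add_of_le (show 6 ≤ Nat.find hex by omega)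
    rw [hm, Nat.add_comm 6 m] at hspec
    exact absurd (Vn_pred h hp5 hspec) (Nat.find_min hex (by omega))

theorem t_four_eq_zero (h : MinOutside p P T A) (hp5 : 5 ≤ p) {u : G} (hu : u ∈ A) (v : L.V) :
    (L.t u ^ 4) v = 0 := by
  have := mem_Vn_succ hu (mem_Vn_succ hu (mem_Vn_succ hu (mem_Vn_succ hu (mem_Vn_zero v))))
  rw [Vn_four_eq_bot h hp5, AddSubgroup.mem_bot] at this
  simpa [pow_succ, pow_zero, Module.End.mul_apply] using this

theorem t_three_eq_zero (h : MinOutside p P T A) (hp5 : 5 ≤ p)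
    (hab : ∀ y ∈ L.Y, ∀ y' ∈ L.Y, y * y' = y' * y) {u : G} (hu : u ∈ A) (v : L.V) :
    (L.t u ^ 3) v = 0 := by
  have := mem_Vn_succ hu (mem_Vn_succ hu (mem_Vn_succ hu (mem_Vn_zero v)))
  rw [Vn_three_eq_bot_of_comm h hp5 hab, AddSubgroup.mem_bot] at this
  simpa [pow_succ, pow_zero, Module.End.mul_apply] using this

end Sec

end Cfsg.Agent.H30.JCore
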