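import Cfsg.Agent.H30.JCore.Core
import Cfsg.Agent.Coprime.Action
import Cfsg.Agent.Coprime.Abelian
import Cfsg.Agent.Coprime.Generation

/-!
For `p ≥ 5`: abelian subgroups of largest order lie in a self-centralising normal `p`-subgroup `P` when
`X / P` has an abelian normal `p'`-subgroup of `p`-power index and no normal `p`-subgroup.
-/

set_option autoImplicit false

namespace Cfsg.Agent.H30.JCore

open Subgroup
open scoped commutatorElement

variable {p : ℕ} [hp : Fact p.Prime] {X : Type*} [Group X] [Finite X]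

/-- In such a quotient only the identity is a `p`-element centralising the abelian `p'`-part. -/
theorem eq_one_of_centralizes {K : Subgroup X} [K.Normal]
    (hKidx : ∀ x : X, ∃ k : ℕ, x ^ p ^ k ∈ K) (hcore : ∀ N : Subgroup X, N.Normal → IsPGroup p N → N = ⊥)
    {x : X} (hx : ∃ k : ℕ, x ^ p ^ k = 1) (hxK : x ∈ centralizer (K : Set X)) : x = 1 := by
  set H := centralizer (K : Set X) with hH
  have hker : (QuotientGroup.mk' (K.subgroupOf H)).ker ≤ center H := by
    rw [QuotientGroup.ker_mk']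
    intro y hy
    rw [mem_center_iff]
    exact fun z => Subtype.ext (mem_centralizer_iff.mp z.2 (y : X) (mem_subgroupOf.mp hy)).symm
  have hquot : IsPGroup p (H ⧸ K.subgroupOf H) := by
    intro q
    obtain ⟨y, rfl⟩ := QuotientGroup.mk_surjective q
    obtain ⟨k, hk⟩ := hKidx (y : X)
    exact ⟨k, by rw [← QuotientGroup.mk_pow, QuotientGroup.eq_one_iff, mem_subgroupOf, coe_pow]; exact hk⟩
  have := hquot.isNilpotent
  have hnil : Group.IsNilpotent H := Subgroup.isNilpotent_of_ker_le_center _ hker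
  obtain ⟨S, hS⟩ : ∃ S : Sylow p H, (⟨x, hxK⟩ : H) ∈ (S : Subgroup H) := by
    have hz : IsPGroup p (zpowers (⟨x, hxK⟩ : H)) := by
      obtain ⟨k, hk⟩ := hx
      have hdvd : orderOf (⟨x, hxK⟩ : H) ∣ p ^ k := orderOf_dvd_of_pow_eq_one (Subtype.ext hk)
      obtain ⟨j, -, hj⟩ := (Nat.dvd_prime_pow hp.out).mp hdvd
      exact IsPGroup.of_card (n := j) (by rw [Nat.card_zpowers]; exact hj)
    obtain ⟨S, hS⟩ := hz.exists_le_sylow
    exact ⟨S, hS (mem_zpowers _)⟩
  have hSn : (S : Subgroup H).Normal := Sylow.normal_of_normalizerCondition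
    (Group.normalizerCondition_of_isNilpotent) S
  have := Sylow.characteristic_of_normal S hSn
  have h0 := hcore ((S : Subgroup H).map H.subtype) inferInstance (S.isPGroup'.map _)
  exact mem_bot.mp (h0 ▸ mem_map_of_mem H.subtype hS)

/-- **The theorem**: abelian subgroups of largest order lie in `P`. -/
theorem maxAbelian_le (hp5 : 5 ≤ p) {P : Subgroup X} [P.Normal] (hP : IsPGroup p P)
    (hC : centralizer (P : Set X) ≤ P) {K : Subgroup (X ⧸ P)} [K.Normal]
    (hKab : ∀ a ∈ K, ∀ b ∈ K, a * b = b * a) (hKp : ¬ p ∣ Nat.card K)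
    (hKidx : ∀ x : X ⧸ P, ∃ k : ℕ, x ^ p ^ k ∈ K)
    (hcore : ∀ N : Subgroup (X ⧸ P), N.Normal → IsPGroup p N → N = ⊥)
    {T : Subgroup X} (hT : IsPGroup p T) (hPT : P ≤ T) {A : Subgroup X} (hAT : A ≤ T)
    (hA : ∀ a ∈ A, ∀ b ∈ A, a * b = b * a)
    (hmax : ∀ B : Subgroup X, B ≤ T → (∀ a ∈ B, ∀ b ∈ B, a * b = b * a) → Nat.card B ≤ Nat.card A) :
    A ≤ P := by
  classical
  by_contra hAP
  set f := QuotientGroup.mk' P with hf
  have hfs : Function.Surjective f := QuotientGroup.mk'_surjective P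
  have hfker : f.ker = P := QuotientGroup.ker_mk' P
  set Ab := A.map f with hAb
  have hAp : IsPGroup p Ab := (hT.to_le hAT).map f
  have hAbc : ∀ a ∈ Ab, ∀ b ∈ Ab, a * b = b * a := by
    rintro _ ⟨a, ha, rfl⟩ _ ⟨b, hb, rfl⟩
    rw [← map_mul, ← map_mul, hA a ha b hb]
  have hAbcomm : IsMulCommutative Ab :=
    ⟨⟨fun a b => Subtype.ext (hAbc _ a.2 _ b.2)⟩⟩
  have hKnorm : Ab ≤ normalizer (K : Set (X ⧸ P)) := by rw [normalizer_eq_top]; exact le_top
  -- some element of `A` moves `K`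
  have hmove : ¬ K ≤ centralizer (Ab : Set (X ⧸ P)) := by
    intro hle
    refine hAP fun a ha => ?_
    rw [← hfker, MonoidHom.mem_ker]
    obtain ⟨k, hk⟩ := hAp ⟨f a, mem_map_of_mem f ha⟩
    exact eq_one_of_centralizes hKidx hcore ⟨k, congrArg Subtype.val hk⟩
      (le_centralizer_iff.mp hle (mem_map_of_mem f ha))
  obtain ⟨Q1, hQ1, hQmin⟩ := (Set.toFinite {R : Subgroup (X ⧸ P) | R ≤ K ∧
    Ab ≤ normalizer (R : Set (X ⧸ P)) ∧ ¬ R ≤ centralizer (Ab : Set (X ⧸ P))}).exists_minimal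
      ⟨K, le_rfl, hKnorm, hmove⟩
  obtain ⟨hQK, hQn, hQmove⟩ := hQ1
  have hinv : ∀ R ≤ Q1, Ab ≤ normalizer (R : Set (X ⧸ P)) →
      R = Q1 ∨ R ≤ centralizer (Ab : Set (X ⧸ P)) := by
    intro R hR hn
    rcases em (R ≤ centralizer (Ab : Set (X ⧸ P))) with h | h
    · exact Or.inr h
    · exact Or.inl (le_antisymm hR (hQmin ⟨hR.trans hQK, hn, h⟩ hR))
  have hcopK : ∀ R ≤ K, (Nat.card Ab).Coprime (Nat.card R) := by
    intro R hR
    obtain ⟨m, hm⟩ := IsPGroup.iff_card.mp hAp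
    rw [hm]
    exact ((hp.out.coprime_iff_not_dvd.mpr hKp).pow_left m).coprime_dvd_right (card_dvd_of_le hR)
  have hQcomm : IsMulCommutative Q1 :=
    ⟨⟨fun a b => Subtype.ext (hKab _ (hQK a.2) _ (hQK b.2))⟩⟩
  have hfix : Q1 ⊓ centralizer (Ab : Set (X ⧸ P)) = ⊥ := by
    obtain ⟨hd, -⟩ := Coprime.abelian_decomposition hQn (hcopK Q1 hQK)
    have hle : ⁅Q1, Ab⁆ ≤ Q1 := Coprime.commutator_le_left_of_normalizer hQn
    have hn : Ab ≤ normalizer ((⁅Q1, Ab⁆ : Subgroup (X ⧸ P)) : Set (X ⧸ P)) := fun a ha =>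
      Coprime.mem_normalizer_of_map_conj (by
        rw [map_commutator, Coprime.map_conj_eq (hQn ha), Coprime.map_conj_eq (le_normalizer ha)])
    rcases hinv _ hle hn with h | h
    · rw [h] at hd
      exact le_bot_iff.mp ((le_inf le_rfl inf_le_left).trans hd.le)
    · refine absurd ?_ hQmove
      rw [← commutator_eq_bot_iff_le_centralizer, ← le_bot_iff]
      exact (le_inf (le_inf hle h) le_rfl).trans hd.le
  have hone : ∀ b ∈ Ab, ∀ s ∈ Q1, s ≠ 1 → b * s = s * b → ∀ t ∈ Q1, b * t = t * b := by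
    intro b hb s hs hs1 hbs
    have hn : Ab ≤ normalizer ((Q1 ⊓ centralizer {b} : Subgroup (X ⧸ P)) : Set (X ⧸ P)) := fun a ha => by
      refine mem_normalizer_iff.mpr fun t => ?_
      have hab : b * a = a * b := hAbc b hb a ha
      simp only [Subgroup.mem_inf, mem_centralizer_singleton_iff]
      rw [← mem_normalizer_iff.mp (hQn ha) t]
      refine and_congr Iff.rfl ⟨fun h => ?_, fun h => ?_⟩
      · calc a * t * a⁻¹ * b = a * t * (a⁻¹ * b) := by group
          _ = a * t * (b * a⁻¹) := by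
              rw [show a⁻¹ * b = b * a⁻¹ by rw [inv_mul_eq_iff_eq_mul, ← mul_assoc, ← hab, mul_inv_cancel_right]]
          _ = a * (t * b) * a⁻¹ := by group
          _ = a * (b * t) * a⁻¹ := by rw [h]
          _ = b * (a * t * a⁻¹) := by rw [← mul_assoc a b t, ← hab]; group
      · have := congrArg (fun u => a⁻¹ * u * a) h
        calc t * b = a⁻¹ * (a * t * a⁻¹) * (a * b) := by group
          _ = a⁻¹ * ((a * t * a⁻¹) * b) * a := by rw [← hab]; group
          _ = a⁻¹ * (b * (a * t * a⁻¹)) * a := this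
          _ = a⁻¹ * (b * a) * t := by group
          _ = b * t := by rw [hab, inv_mul_cancel_left]
    rcases hinv _ inf_le_left hn with h | h
    · exact fun t ht => (mem_centralizer_singleton_iff.mp ((h.ge ht).2)).symm
    · refine absurd ?_ hs1
      have hmem : s ∈ Q1 ⊓ centralizer {b} :=
        Subgroup.mem_inf.mpr ⟨hs, mem_centralizer_singleton_iff.mpr hbs.symm⟩
      exact mem_bot.mp (hfix ▸ (Subgroup.mem_inf.mpr ⟨hs, h hmem⟩))
  have hQ1ne : Q1 ≠ ⊥ := fun h => hQmove (h ▸ bot_le)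
  -- a subgroup with cyclic quotient acting trivially
  obtain ⟨B, hBA, ⟨a0, ha0, hBa0⟩, hBfix⟩ : ∃ B ≤ Ab, (∃ a ∈ Ab, B ⊔ zpowers a = Ab) ∧
      ∀ b ∈ B, ∀ t ∈ Q1, b * t = t * b := by
    by_contra hcon
    refine hQ1ne (le_bot_iff.mp (Coprime.le_of_centralizer_cyclic_quotient_le hQn (hcopK Q1 hQK) ?_))
    intro B hB hcyc s hs
    rw [mem_bot]
    by_contra hs1
    exact hcon ⟨B, hB, hcyc, fun b hb =>
      hone b (hB hb) s hs.1 hs1 (mem_centralizer_iff.mp hs.2 b hb)⟩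
  set A0 := Ab ⊓ centralizer (Q1 : Set (X ⧸ P)) with hA0
  have hBA0 : B ≤ A0 := fun b hb =>
    Subgroup.mem_inf.mpr ⟨hBA hb, mem_centralizer_iff.mpr fun t ht => (hBfix b hb t ht).symm⟩
  have ha0A0 : a0 ∉ A0 := fun h => hQmove (le_centralizer_iff.mp
    ((hBa0.ge.trans (sup_le hBA0 (zpowers_le.mpr h))).trans inf_le_right))
  obtain ⟨c, hcA, hca0⟩ := ha0
  have hA0le : A0 ≤ Ab := inf_le_left
  have : (A0.subgroupOf Ab).Normal := inferInstance
  set cq : Ab ⧸ A0.subgroupOf Ab := QuotientGroup.mk ⟨f c, mem_map_of_mem f hcA⟩ with hcq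
  obtain ⟨k, hk⟩ := IsPGroup.iff_orderOf.mp (hAp.to_quotient (A0.subgroupOf Ab)) cq
  have hkpos : 0 < k := by
    rcases Nat.eq_zero_or_pos k with rfl | h
    · rw [pow_zero, orderOf_eq_one_iff, hcq, QuotientGroup.eq_one_iff, mem_subgroupOf] at hk
      exact absurd (hca0 ▸ hk) ha0A0
    · exact h
  have hord : ∀ i : ℕ, f (c ^ i) ∈ A0 ↔ p ^ k ∣ i := by
    intro i
    rw [← hk, orderOf_dvd_iff_pow_eq_one, hcq, ← QuotientGroup.mk_pow, QuotientGroup.eq_one_iff,
      mem_subgroupOf, coe_pow, map_pow]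
  -- a `p'`-subgroup covering `Q1`
  set Kp := Q1.comap f with hKpdef
  have hPKp : P ≤ Kp := fun x hx => by
    have : f x = 1 := MonoidHom.mem_ker.mp (hfker.ge hx)
    exact mem_comap.mpr (this ▸ one_mem Q1)
  have hidx : (P.subgroupOf Kp).index = Nat.card Q1 := by
    have hker : (f.subgroupComap Q1).ker = P.subgroupOf Kp := by
      ext y
      rw [MonoidHom.mem_ker, mem_subgroupOf, ← Subtype.coe_inj]
      exact (MonoidHom.mem_ker (f := f)).symm.trans (by rw [hfker])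
    rw [← hker, Subgroup.index_ker, MonoidHom.range_eq_top.mpr
      (MonoidHom.subgroupComap_surjective_of_surjective f Q1 hfs), Subgroup.card_top]
  have hcopP : (Nat.card (P.subgroupOf Kp)).Coprime (P.subgroupOf Kp).index := by
    rw [hidx, Nat.card_congr (subgroupOfEquivOfLe hPKp).toEquiv]
    obtain ⟨m, hm⟩ := IsPGroup.iff_card.mp hP
    rw [hm]
    exact ((hp.out.coprime_iff_not_dvd.mpr hKp).pow_left m).coprime_dvd_right (card_dvd_of_le hQK)
  obtain ⟨H, hH⟩ := Subgroup.exists_right_complement'_of_coprime hcopP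
  set Q := H.map Kp.subtype with hQ
  have hQinj : ∀ s ∈ Q, s ∈ P → s = 1 := by
    rintro _ ⟨y, hy, rfl⟩ hyP
    have := mem_bot.mp ((disjoint_iff.mp hH.disjoint) ▸
      (Subgroup.mem_inf.mpr ⟨mem_subgroupOf.mpr hyP, hy⟩))
    rw [this]; rfl
  have hQf : ∀ s ∈ Q, f s ∈ Q1 := by
    rintro _ ⟨y, -, rfl⟩
    exact y.2
  have hQsurj : ∀ q ∈ Q1, ∃ s ∈ Q, f s = q := by
    intro q hq
    obtain ⟨y, hy⟩ := hfs q
    obtain ⟨⟨u, v⟩, huv⟩ := hH.2 (⟨y, mem_comap.mpr (hy.symm ▸ hq)⟩ : Kp)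
    refine ⟨_, mem_map_of_mem _ v.2, ?_⟩
    have h1 := congrArg (fun w : Kp => f (w : X)) huv
    simp only [coe_mul, map_mul] at h1
    rw [show f ((u : Kp) : X) = 1 from MonoidHom.mem_ker.mp (hfker.ge (mem_subgroupOf.mp u.2)),
      one_mul] at h1
    exact h1.trans hy
  have hQord : ∀ s ∈ Q, (orderOf s).Coprime p := by
    intro s hs
    have h1 : s ^ Nat.card Q1 = 1 := by
      refine hQinj _ (pow_mem hs _) ?_
      refine hfker.le ?_
      rw [MonoidHom.mem_ker, map_pow]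
      exact orderOf_dvd_iff_pow_eq_one.mp (Q1.orderOf_dvd_natCard (hQf s hs))
    exact ((hp.out.coprime_iff_not_dvd.mpr hKp).symm).coprime_dvd_left
      ((orderOf_dvd_of_pow_eq_one h1).trans (card_dvd_of_le hQK))
  -- pass to the preimage of `Q1 ⊔ Ab`
  set G := (Q1 ⊔ Ab).comap f with hG
  set P1 := A0.comap f with hP1
  have hAG : A ≤ G := fun a ha => mem_comap.mpr (mem_sup_right (mem_map_of_mem f ha))
  have hP1G : P1 ≤ G := comap_mono (hA0le.trans le_sup_right)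
  have hQG : Q ≤ G := fun s hs => mem_comap.mpr (mem_sup_left (hQf s hs))
  have hA0n : Q1 ⊔ Ab ≤ normalizer (A0 : Set (X ⧸ P)) := by
    refine sup_le (fun s hs => ?_) (fun a ha => ?_)
    · refine centralizer_le_normalizer _ (mem_centralizer_iff.mpr fun b hb => ?_)
      exact (mem_centralizer_iff.mp (Subgroup.mem_inf.mp hb).2 s hs).symm
    · refine centralizer_le_normalizer _ (mem_centralizer_iff.mpr fun b hb => ?_)
      exact hAbc b (hA0le hb) a ha
  have hP1n : (P1.subgroupOf G).Normal := ⟨fun u hu g => by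
    rw [mem_subgroupOf, mem_comap] at hu ⊢
    rw [coe_mul, coe_mul, coe_inv, map_mul, map_mul, map_inv]
    exact (mem_normalizer_iff.mp (hA0n g.2) _).mp hu⟩
  have hP1p : IsPGroup p P1 := by
    refine (hAp.to_le hA0le).comap_of_ker_isPGroup f ?_
    rw [hfker]; exact hP
  have hP1T : P1 ≤ T := by
    refine le_trans (comap_mono hA0le) ?_
    rw [hAb, comap_map_eq, hfker]
    exact sup_le hAT hPT
  have hPP1 : P ≤ P1 := fun x hx => by
    have : f x = 1 := MonoidHom.mem_ker.mp (hfker.ge hx)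
    exact mem_comap.mpr (this ▸ one_mem A0)
  refine false_of_fpf (p := p) (G := G) hp5 (P := P1.subgroupOf G) (A := A.subgroupOf G)
    (Q := Q.subgroupOf G) (hP1p.comap_subtype) (fun a ha b hb => Subtype.ext (hA _ ha _ hb))
    ?_ ?_ ?_ ?_ ?_ (c := ⟨c, hAG hcA⟩) hcA hkpos ?_ ?_ ?_
  · intro Y hY hYc
    rw [Nat.card_congr (subgroupOfEquivOfLe hAG).toEquiv]
    refine le_trans (Nat.card_congr (Y.equivMapOfInjective G.subtype G.subtype_injective).toEquiv).le
      (hmax _ ?_ ?_)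
    · refine (map_mono hY).trans ?_
      rw [Subgroup.map_sup, map_subgroupOf_eq_of_le hP1G, map_subgroupOf_eq_of_le hAG]
      exact sup_le hP1T hAT
    · rintro _ ⟨a, ha, rfl⟩ _ ⟨b, hb, rfl⟩
      exact congrArg Subtype.val (hYc a ha b hb)
  · intro s hs
    rw [← Subgroup.orderOf_coe]
    exact hQord _ hs
  · intro h
    rw [subgroupOf_eq_bot] at h
    obtain ⟨⟨q, hq⟩, hq1⟩ := ne_bot_iff_exists_ne_one.mp hQ1ne
    obtain ⟨s, hs, hsq⟩ := hQsurj q hq
    refine hq1 (Subtype.ext ?_)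
    change q = 1
    rw [← hsq, show s = 1 from mem_bot.mp ((disjoint_iff.mp h).le (Subgroup.mem_inf.mpr ⟨hs, hQG hs⟩)), map_one]
  · intro s hs hcomm
    refine Subtype.ext (hQinj _ hs (hC (mem_centralizer_iff.mpr fun x hx => ?_)))
    exact (congrArg Subtype.val (hcomm ⟨x, hP1G (hPP1 hx)⟩ (hPP1 hx))).symm
  · intro a ha s hs
    have h1 : f ((a : X) * (s : X) * (a : X)⁻¹) ∈ Q1 := by
      rw [map_mul, map_mul, map_inv]
      exact (mem_normalizer_iff.mp (hQn (mem_map_of_mem f ha)) _).mp (hQf _ hs)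
    obtain ⟨s', hs', hfs'⟩ := hQsurj _ h1
    refine ⟨⟨(a : X) * (s : X) * (a : X)⁻¹ * s'⁻¹, ?_⟩, ?_, ⟨s', hQG hs'⟩, hs',
      Subtype.ext (inv_mul_cancel_right _ _).symm⟩
    · exact G.mul_mem (G.mul_mem (G.mul_mem a.2 s.2) (G.inv_mem a.2)) (G.inv_mem (hQG hs'))
    · refine hPP1 (hfker.le (MonoidHom.mem_ker.mpr ?_))
      change f ((a : X) * (s : X) * (a : X)⁻¹ * s'⁻¹) = 1
      rw [map_mul, map_inv, hfs', mul_inv_cancel]
  · intro a ha
    have hnz : zpowers a0 ≤ normalizer (B : Set (X ⧸ P)) :=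
      le_trans (zpowers_le.mpr (hca0 ▸ mem_map_of_mem f hcA)) fun u hu =>
        centralizer_le_normalizer _ (mem_centralizer_iff.mpr fun b hb => hAbc b (hBA hb) u hu)
    obtain ⟨b, hb, u, hu, hbu⟩ := (Coprime.mem_sup_iff hnz).mp (hBa0.ge (mem_map_of_mem f (show (a : X) ∈ A from ha)))
    obtain ⟨i, rfl⟩ := Submonoid.mem_powers_iff _ _ |>.mp (mem_powers_iff_mem_zpowers.mpr hu)
    refine ⟨i, ?_⟩
    rw [mem_subgroupOf, mem_comap, coe_mul, coe_inv, coe_pow, map_mul, map_inv, map_pow, hca0]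
    change f (a : X) * (a0 ^ i)⁻¹ ∈ A0
    rw [← hbu, mul_inv_cancel_right]
    exact hBA0 hb
  · intro i
    rw [mem_subgroupOf, mem_comap, coe_pow]
    exact hord i
  · intro i hi s hs hcomm
    rw [mem_subgroupOf, mem_comap] at hi hcomm
    simp only [coe_mul, coe_inv, coe_pow, map_mul, map_inv] at hi hcomm
    set b := f (c ^ i) with hb
    set t := f (s : X) with ht
    have hbA : b ∈ Ab := mem_map_of_mem f (pow_mem hcA i)
    have htQ : t ∈ Q1 := hQf _ hs
    have hmem : b * t * b⁻¹ * t⁻¹ ∈ Q1 :=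
      mul_mem ((mem_normalizer_iff.mp (hQn hbA) t).mp htQ) (inv_mem htQ)
    have h1 : b * t * b⁻¹ * t⁻¹ = 1 := by
      obtain ⟨u, hu⟩ := hAp ⟨_, hA0le hcomm⟩
      have hu' : (b * t * b⁻¹ * t⁻¹) ^ p ^ u = 1 := congrArg Subtype.val hu
      have hc1 : (orderOf (b * t * b⁻¹ * t⁻¹)).Coprime p :=
        ((hp.out.coprime_iff_not_dvd.mpr hKp).symm).coprime_dvd_left (K.orderOf_dvd_natCard (hQK hmem))
      exact orderOf_eq_one_iff.mp (Nat.eq_one_of_dvd_coprimes (hc1.pow_right u) dvd_rfl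
        (orderOf_dvd_of_pow_eq_one hu'))
    by_contra hs1
    refine hi (Subgroup.mem_inf.mpr ⟨hbA, mem_centralizer_iff.mpr fun u hu => ?_⟩)
    refine (hone b hbA t htQ (fun h => hs1 (Subtype.ext (hQinj _ hs (hfker.le (MonoidHom.mem_ker.mpr h)))))
      ?_ u hu).symm
    rw [mul_inv_eq_one, mul_inv_eq_iff_eq_mul] at h1
    exact h1

end Cfsg.Agent.H30.JCore
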