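import Cfsg.Agent.H30.JCore.Chief
import Cfsg.Agent.H30.JCore.Engel
import Cfsg.Agent.H30.JCore.Criterion
import Cfsg.Agent.Fusion.Tate

/-!
The normalizer of `J` controls transfer for `p ≥ 7`.
-/

set_option autoImplicit false
set_option linter.unusedSectionVars false

namespace Cfsg.Agent.H30.JCore

open Subgroup
open scoped commutatorElement

universe u

section engel

variable {p : ℕ} [hp : Fact p.Prime] {G : Type*} [Group G] [Finite G] {P : Subgroup G}

theorem Fac.toV_listProd (F : Fac p P) (l : List F.Y) : F.toV l.prod = (l.map F.toV).sum := by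
  induction l with
  | nil => simp [F.toV_one]
  | cons a l ih => rw [List.prod_cons, F.toV_mul, ih, List.map_cons, List.sum_cons]

theorem Fac.engelProd (F : Fac p P) {d : G} {k : ℕ} (hk : k ≤ p - 1)
    (h : ∀ v : F.V, ((F.ρ d⁻¹ - 1) ^ k) v = 0) : Fusion.EngelProd p F.Y F.Y0 d := by
  have hz : (F.ρ d⁻¹ - 1) ^ (p - 1) = 0 := by
    obtain ⟨j, hj⟩ := Nat.exists_eq_add_of_le hk
    rw [hj, add_comm, pow_add]
    exact LinearMap.ext fun v => by rw [Module.End.mul_apply, h, map_zero]; rfl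
  have hp0 : ((p : ℕ) : Module.End (ZMod p) F.V) = 0 := LinearMap.ext fun v => by
    rw [Module.End.natCast_apply, ← Nat.cast_smul_eq_nsmul (ZMod p), ZMod.natCast_self, zero_smul]; rfl
  have hs : ∑ i ∈ Finset.range p, F.ρ d⁻¹ ^ i = 0 := (Fusion.sub_one_pow_eq_geom hp0 _).symm.trans hz
  intro y hy
  set y' : F.Y := ⟨y, hy⟩
  set L : List F.Y := (List.range p).map fun i => MulAut.conjNormal (d⁻¹ ^ i) y' with hL
  have h1 : ((L.prod : F.Y) : G) = ((List.range p).map fun i => (d ^ i)⁻¹ * y * d ^ i).prod := by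
    rw [hL, Subgroup.val_list_prod, List.map_map]
    refine congrArg List.prod (List.map_congr_left fun i _ => ?_)
    rw [Function.comp_apply, MulAut.conjNormal_apply, inv_pow, inv_inv]
  rw [← h1, ← F.toV_eq_zero_iff, F.toV_listProd, hL, List.map_map]
  have h2 : ((List.range p).map (F.toV ∘ fun i => MulAut.conjNormal (d⁻¹ ^ i) y')).sum =
      ∑ i ∈ Finset.range p, (F.ρ d⁻¹ ^ i) (F.toV y') := by
    rw [Finset.sum_eq_multiset_sum, Finset.range_val, Multiset.range, Multiset.map_coe, Multiset.sum_coe]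
    refine congrArg List.sum (List.map_congr_left fun i _ => ?_)
    rw [Function.comp_apply, ← map_pow, F.ρ_toV]
  rw [h2, ← LinearMap.sum_apply, hs, LinearMap.zero_apply]

variable (F M : Fac p P) {U : Subgroup G} [U.Normal]
  (hin : ∀ c ∈ U, ∀ y ∈ M.Y, ⁅c, y⁆ ∈ F.Y)
  (hkill : ∀ c ∈ U, ∀ y ∈ M.Y0, ⁅c, y⁆ = 1)
  (hcen : ∀ e ∈ F.Y, ∀ y ∈ M.Y, e * y = y * e)

/-- commutation with `c` from one section to the other -/
def pairQuot (c : U) : M.Y ⧸ M.Y0.subgroupOf M.Y →* F.Y ⧸ F.Y0.subgroupOf F.Y :=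
  QuotientGroup.lift _
    { toFun := fun y => ((⟨⁅(c : G), (y : G)⁆, hin c c.2 y y.2⟩ : F.Y) : F.Y ⧸ F.Y0.subgroupOf F.Y)
      map_one' := by
        rw [QuotientGroup.eq_one_iff, mem_subgroupOf]
        change ⁅(c : G), (1 : G)⁆ ∈ F.Y0
        rw [commutatorElement_one_right]; exact one_mem _
      map_mul' := fun y y' => by
        rw [← QuotientGroup.mk_mul]
        refine congrArg QuotientGroup.mk (Subtype.ext ?_)
        change ⁅(c : G), (y : G) * y'⁆ = ⁅(c : G), (y : G)⁆ * ⁅(c : G), (y' : G)⁆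
        have e : ⁅(c : G), (y : G) * y'⁆ =
            ⁅(c : G), (y : G)⁆ * ((y : G) * ⁅(c : G), (y' : G)⁆ * (y : G)⁻¹) := by
          simp only [commutatorElement_def]; group
        rw [e, ← hcen _ (hin c c.2 y' y'.2) y y.2, mul_inv_cancel_right] }
    fun y hy => by
      rw [MonoidHom.mem_ker]
      refine (QuotientGroup.eq_one_iff _).mpr ?_
      rw [mem_subgroupOf]
      change ⁅(c : G), (y : G)⁆ ∈ F.Y0
      rw [hkill c c.2 y (mem_subgroupOf.mp hy)]
      exact one_mem _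

/-- the pairing -/
def pairing (c : U) : M.V →ₗ[ZMod p] F.V :=
  AddMonoidHom.toZModLinearMap p (MonoidHom.toAdditive (pairQuot F M hin hkill hcen c))

theorem pairing_toV (c : U) (y : M.Y) : pairing F M hin hkill hcen c (M.toV y) =
    F.toV ⟨⁅(c : G), (y : G)⁆, hin c c.2 y y.2⟩ := rfl

theorem pairing_mul (hUP : U ≤ P) (c d : U) : pairing F M hin hkill hcen (c * d) =
    pairing F M hin hkill hcen c + pairing F M hin hkill hcen d := by
  refine LinearMap.ext fun v => ?_
  obtain ⟨y, rfl⟩ := M.toV_surjective v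
  rw [LinearMap.add_apply, pairing_toV, pairing_toV, pairing_toV]
  have e : (⟨⁅((c * d : U) : G), (y : G)⁆, hin _ (c * d).2 y y.2⟩ : F.Y) =
      MulAut.conjNormal (c : G) ⟨⁅(d : G), (y : G)⁆, hin d d.2 y y.2⟩ *
        ⟨⁅(c : G), (y : G)⁆, hin c c.2 y y.2⟩ := Subtype.ext (by
    change ⁅(c : G) * (d : G), (y : G)⁆ = (c : G) * ⁅(d : G), (y : G)⁆ * (c : G)⁻¹ * ⁅(c : G), (y : G)⁆
    simp only [commutatorElement_def]; group)
  rw [e, F.toV_mul, ← F.ρ_toV, F.ρ_eq_one_of_mem (hUP c.2), Module.End.one_apply, add_comm]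

theorem pairing_conj (g : G) (c : U) : pairing F M hin hkill hcen (MulAut.conjNormal g c) =
    F.ρ g ∘ₗ pairing F M hin hkill hcen c ∘ₗ M.ρ g⁻¹ := by
  refine LinearMap.ext fun v => ?_
  obtain ⟨y, rfl⟩ := M.toV_surjective v
  rw [LinearMap.comp_apply, LinearMap.comp_apply, M.ρ_toV, pairing_toV, pairing_toV, F.ρ_toV]
  refine congrArg F.toV (Subtype.ext ?_)
  simp only [MulAut.conjNormal_apply, commutatorElement_def]; group

include hin hkill hcen in
/-- A cubic and a quartic action give a sextic one through a faithful pairing. -/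
theorem pow_six_of_pairing (B : Fac p P) (hBY : B.Y = U)
    (hker : ∀ c : U, pairing F M hin hkill hcen c = 0 → (c : G) ∈ B.Y0)
    {g : G} (hF : (F.ρ g - 1) ^ 3 = 0) (hM : (M.ρ g⁻¹ - 1) ^ 4 = 0) :
    ∀ v : B.V, ((B.ρ g - 1) ^ (6 : ℕ)) v = 0 := by
  subst hBY
  set φ := pairing F M hin hkill hcen with hφ
  let da : B.Y → B.Y := fun c => c⁻¹ * MulAut.conjNormal g c
  let τ : Module.End (ZMod p) (M.V →ₗ[ZMod p] F.V) :=
    (LinearMap.llcomp (ZMod p) M.V F.V F.V (F.ρ g)).comp (LinearMap.lcomp (ZMod p) F.V (M.ρ g⁻¹)) - 1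
  have hτ : ∀ ψ, τ ψ = F.ρ g ∘ₗ ψ ∘ₗ M.ρ g⁻¹ - ψ := fun ψ => rfl
  have hτ6 := pairing_pow_six hF hM τ hτ
  have h1 : φ 1 = 0 := by
    have := pairing_mul F M hin hkill hcen B.leP 1 1
    rw [mul_one, ← hφ] at this
    exact left_eq_add.mp this
  have hinv : ∀ c, φ c⁻¹ = -φ c := fun c => by
    have := pairing_mul F M hin hkill hcen B.leP c⁻¹ c
    rw [inv_mul_cancel, ← hφ, h1] at this
    exact eq_neg_of_add_eq_zero_left this.symm
  have hstep : ∀ c, φ (da c) = τ (φ c) ∧ B.toV (da c) = (B.ρ g - 1) (B.toV c) := by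
    intro c
    refine ⟨?_, ?_⟩
    · change φ (c⁻¹ * _) = _
      rw [hφ, pairing_mul F M hin hkill hcen B.leP, ← hφ, hinv, hφ, pairing_conj, ← hφ, hτ, neg_add_eq_sub]
    · rw [LinearMap.sub_apply, Module.End.one_apply, B.ρ_toV, B.toV_mul, B.toV_inv, neg_add_eq_sub]
  have hiter : ∀ n, ∀ c, φ (da^[n] c) = (τ ^ n) (φ c) ∧ B.toV (da^[n] c) = ((B.ρ g - 1) ^ n) (B.toV c) := by
    intro n
    induction n with
    | zero => exact fun c => ⟨rfl, rfl⟩
    | succ n ih =>
      intro c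
      rw [Function.iterate_succ_apply', pow_succ', pow_succ', Module.End.mul_apply, Module.End.mul_apply,
        (hstep _).1, (hstep _).2, (ih c).1, (ih c).2]
      exact ⟨rfl, rfl⟩
  intro v
  obtain ⟨c, rfl⟩ := B.toV_surjective v
  rw [← (hiter 6 c).2, B.toV_eq_zero_iff]
  refine hker _ ?_
  rw [(hiter 6 c).1, hτ6, LinearMap.zero_apply]

end engel

variable {p : ℕ} [hp : Fact p.Prime]

/-- the functor `J` -/
def jW : ∀ (Q : Type u) [Group Q], Subgroup Q := fun Q _ => thompsonSubgroupA Q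

/-- the family `{J}` -/
abbrev jFamily : Set (∀ (Q : Type u) [Group Q], Subgroup Q) := {W | @W = @jW.{u}}

/-- There is no minimal failure of control of transfer by `J` for `p ≥ 7`. -/
theorem not_minimalFailure {G : Type u} [Group G] [Finite G] (hp7 : 7 ≤ p) (S : Sylow p G) :
    ¬ Fusion.MinimalFailure jFamily.{u} S := by
  classical
  intro h
  have hne : (jFamily.{u}).Nonempty := ⟨@jW.{u}, rfl⟩
  have hS := h.ne_pCore hne
  set Q := pCore p G with hQdef
  haveI hQn : Q.Normal := normal_of_characteristic _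
  have hQp : IsPGroup p Q := Cores.pCore_isPGroup
  have hQS : Q ≤ (S : Subgroup G) := Cores.pCore_le_sylow S
  set J := thompsonSubgroupAOf (S : Subgroup G) with hJ
  have hJn : ¬ J.Normal := h.not_normal (W := @jW.{u}) rfl
  have hJQ : ¬ J ≤ Q := by
    intro hle
    refine hJn ?_
    rw [hJ, ← H59.thompsonAOf_eq_of_le hQS hle]
    refine normalizer_eq_top_iff.mp (top_le_iff.mp ?_)
    refine le_trans ?_ (H59.normalizer_le_normalizer_thompsonAOf Q)
    rw [normalizer_eq_top]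
  obtain ⟨A₀, hA₀, hA₀Q⟩ := H85.exists_maxAbelian_not_le hJQ
  -- smallest image
  obtain ⟨A, ⟨⟨hAS, hAc, hAm⟩, hAQ⟩, hAmin⟩ := (Set.toFinite
    {A : Subgroup G | H85.IsMaxAbelianIn (S : Subgroup G) A ∧ ¬ A ≤ Q}).exists_minimalFor
      (fun A : Subgroup G => Nat.card ↥(A ⊔ Q)) _ ⟨A₀, hA₀, hA₀Q⟩
  have hmo : MinOutside p Q (S : Subgroup G) A := by
    refine ⟨S.isPGroup', hQS, hAS, Thompson.isMulCommutative_iff_forall.mp hAc,
      fun B hB hBc => hAm B hB (Thompson.isMulCommutative_iff_forall.mpr hBc), ?_, hAQ⟩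
    intro B hB hBc hcard hBA hBQ
    have hBmax : H85.IsMaxAbelianIn (S : Subgroup G) B :=
      ⟨hB, Thompson.isMulCommutative_iff_forall.mpr hBc, fun C hC hCc => (hAm C hC hCc).trans hcard⟩
    have hle : B ⊔ Q ≤ A ⊔ Q := sup_le (by rwa [sup_comm] at hBA) le_sup_right
    have heq := eq_of_le_of_card_ge hle (hAmin ⟨hBmax, hBQ⟩ (card_le_of_le hle))
    exact le_sup_left.trans heq.ge
  obtain ⟨u, huA, huQ⟩ := SetLike.not_le_iff_exists.mp hAQ
  set Tf := Fusion.Tj jFamily.{u} (S : Subgroup G) with hTf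
  -- the bottom normal subgroup leaving the focal subgroup
  obtain ⟨U1, ⟨hU1n, hU1X, hU1T⟩, hU1min⟩ := (Set.toFinite
    {N : Subgroup G | N.Normal ∧ N ≤ commutator G ⊓ Q ∧ ¬ N ≤ Tf}).exists_minimal
      ⟨commutator G ⊓ Q, inferInstance, le_rfl, h.not_pCore_le hS⟩
  haveI := hU1n
  set V := U1 ⊓ Tf.normalCore with hVdef
  haveI hVn : V.Normal := inferInstance
  have hVT : V ≤ Tf := inf_le_right.trans (normalCore_le _)
  have hU1V : ¬ U1 ≤ V := fun hle => hU1T (hle.trans hVT)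
  have hproper : ∀ N : Subgroup G, N.Normal → N ≤ U1 → N ≠ U1 → N ≤ V := by
    intro N hN hle hne'
    haveI := hN
    refine le_inf hle (normal_le_normalCore.mpr ?_)
    by_contra hcon
    exact hne' (le_antisymm hle (hU1min ⟨hN, hle.trans hU1X, hcon⟩ hle))
  have hU1Q : U1 ≤ Q := hU1X.trans inf_le_right
  let B : Fac p Q := Fac.ofChief hQp hU1n hVn inf_le_left hU1V hU1Q fun N hN hVN hN1 => by
    by_cases hN' : N = U1
    · exact Or.inr hN'
    · exact Or.inl (le_antisymm (hproper N hN hN1 hN') hVN)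
  suffices key : ∃ k ≤ p - 1, ∀ v : B.V, ((B.ρ u⁻¹ - 1) ^ k) v = 0 by
    obtain ⟨k, hk, hkv⟩ := key
    exact hU1T (le_Tj_of_engelProd h hS hU1X hVT (hAS huA) huQ (B.engelProd hk hkv))
  by_cases hc : V ≤ centralizer (U1 : Set G)
  · refine ⟨4, by omega, fun v => ?_⟩
    let L : Sec p Q := B.toSec' fun z hz y hy => (mem_centralizer_iff.mp (hc hz) y hy).symm
    exact L.t_four_eq_zero hmo (by omega) (inv_mem huA) v
  refine ⟨6, by omega, ?_⟩
  set C := centralizer (U1 : Set G) with hC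
  obtain ⟨Y, ⟨hYn, hYV, hYC⟩, hYmin⟩ := (Set.toFinite
    {N : Subgroup G | N.Normal ∧ N ≤ V ∧ ¬ N ≤ C}).exists_minimal ⟨V, hVn, le_rfl, hc⟩
  haveI := hYn
  have hY1 : Y ≤ U1 := hYV.trans inf_le_left
  haveI hY0n : (Y ⊓ C).Normal := inferInstance
  have hYproper : ∀ N : Subgroup G, N.Normal → N ≤ Y → N ≠ Y → N ≤ Y ⊓ C := by
    intro N hN hle hne'
    refine le_inf hle ?_
    by_contra hcon
    exact hne' (le_antisymm hle (hYmin ⟨hN, hle.trans hYV, hcon⟩ hle))
  let M : Fac p Q := Fac.ofChief hQp hYn hY0n inf_le_left (fun hle => hYC (hle.trans inf_le_right))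
    (hY1.trans hU1Q) fun N hN h1 h2 => by
      by_cases hN' : N = Y
      · exact Or.inr hN'
      · exact Or.inl (le_antisymm (hYproper N hN h2 hN') h1)
  let MS : Sec p Q := M.toSec' fun z hz y hy =>
    (mem_centralizer_iff.mp (Subgroup.mem_inf.mp hz).2 y (hY1 hy)).symm
  set E := ⁅Y, U1⁆ with hE
  have hEn : E.Normal := by rw [hE]; infer_instance
  have hEY : E ≤ Y := commutator_le_left Y U1
  have hYne : Y ≠ ⊥ := fun h0 => hYC (h0 ▸ bot_le)
  have hEY0 : E ≤ Y ⊓ C := hYproper E hEn hEY fun he =>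
    commutator_ne_of_isPGroup hQp (hY1.trans hU1Q) hYne
      (le_antisymm (commutator_le_left _ _) (he.ge.trans (commutator_mono le_rfl hU1Q)))
  have hEne : E ≠ ⊥ := fun h0 => hYC (commutator_eq_bot_iff_le_centralizer.mp h0)
  obtain ⟨Z, ⟨hZn, hZE, hZne⟩, hZmax⟩ := (Set.toFinite
    {N : Subgroup G | N.Normal ∧ N ≤ E ∧ N ≠ E}).exists_maximal ⟨⊥, inferInstance, bot_le, hEne.symm⟩
  let F : Fac p Q := Fac.ofChief hQp hEn hZn hZE (fun hle => hZne (le_antisymm hZE hle))
    ((hEY.trans hY1).trans hU1Q) fun N hN h1 h2 => by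
      by_cases hN' : N = E
      · exact Or.inr hN'
      · exact Or.inl (le_antisymm (hZmax ⟨hN, h2, hN'⟩ h1) h1)
  have hEcomm : ∀ e ∈ E, ∀ y ∈ Y, e * y = y * e := fun e he y hy =>
    (mem_centralizer_iff.mp (Subgroup.mem_inf.mp (hEY0 he)).2 y (hY1 hy)).symm
  let FS : Sec p Q := F.toSec' fun z hz y hy => hEcomm z (hZE hz) y (hEY hy)
  have hin : ∀ c ∈ U1, ∀ y ∈ M.Y, ⁅c, y⁆ ∈ F.Y := fun c hc y hy => by
    change ⁅c, y⁆ ∈ E
    rw [hE, commutator_comm]
    exact commutator_mem_commutator hc hy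
  have hkill : ∀ c ∈ U1, ∀ y ∈ M.Y0, ⁅c, y⁆ = 1 := fun c hc y hy =>
    commutatorElement_eq_one_iff_mul_comm.mpr (mem_centralizer_iff.mp (Subgroup.mem_inf.mp hy).2 c hc)
  refine pow_six_of_pairing F M hin hkill hEcomm B rfl (fun c hc0 => ?_) ?_ ?_
  · let K : Subgroup G :=
      { carrier := {c | ∃ hc : c ∈ U1, pairing F M hin hkill hEcomm ⟨c, hc⟩ = 0}
        one_mem' := ⟨one_mem _, by
          have := pairing_mul F M hin hkill hEcomm hU1Q 1 1
          rw [mul_one] at this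
          exact left_eq_add.mp this⟩
        mul_mem' := by
          rintro a b ⟨ha, ha0⟩ ⟨hb, hb0⟩
          refine ⟨mul_mem ha hb, ?_⟩
          have := pairing_mul F M hin hkill hEcomm hU1Q ⟨a, ha⟩ ⟨b, hb⟩
          rw [ha0, hb0, add_zero] at this
          exact this
        inv_mem' := by
          rintro a ⟨ha, ha0⟩
          refine ⟨inv_mem ha, ?_⟩
          have h1 := pairing_mul F M hin hkill hEcomm hU1Q ⟨a, ha⟩ ⟨a, ha⟩⁻¹
          rw [mul_inv_cancel, ha0, zero_add] at h1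
          have h2 := pairing_mul F M hin hkill hEcomm hU1Q 1 1
          rw [mul_one] at h2
          exact h1.symm.trans (left_eq_add.mp h2) }
    have hKn : K.Normal := ⟨by
      rintro a ⟨ha, ha0⟩ g
      refine ⟨hU1n.conj_mem _ ha g, ?_⟩
      have := pairing_conj F M hin hkill hEcomm g ⟨a, ha⟩
      rw [ha0, LinearMap.zero_comp, LinearMap.comp_zero] at this
      exact this⟩
    have hKU : K ≤ U1 := fun a ha => ha.1
    refine hproper K hKn hKU (fun he => ?_) ⟨c.2, hc0⟩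
    refine hZne (le_antisymm hZE ?_)
    rw [hE, commutator_comm, commutator_le]
    intro a ha y hy
    obtain ⟨ha', ha0⟩ := he.ge ha
    have := congrArg (fun f => f (M.toV ⟨y, hy⟩)) ha0
    simp only [LinearMap.zero_apply] at this
    exact F.toV_eq_zero_iff.mp ((pairing_toV F M hin hkill hEcomm _ _).symm.trans this)
  · exact LinearMap.ext fun v => FS.t_three_eq_zero hmo (by omega)
      (fun e he e' he' => hEcomm e he e' (hEY he')) (inv_mem huA) v
  · rw [inv_inv]
    exact LinearMap.ext fun v => MS.t_four_eq_zero hmo (by omega) huA v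

/-- For `p ≥ 7` the normalizer of `J` controls transfer. -/
theorem commutator_inf_le {G : Type u} [Group G] [Finite G] (hp7 : 7 ≤ p) (S : Sylow p G) :
    commutator G ⊓ (S : Subgroup G) ≤ ⁅normalizer (thompsonSubgroupAOf (S : Subgroup G) : Set G),
      normalizer (thompsonSubgroupAOf (S : Subgroup G) : Set G)⁆ := by
  have h𝓦 : ∀ W ∈ jFamily.{u}, IsCharPFunctor.{u} p W := fun W hW => by
    obtain rfl : @W = @jW.{u} := hW; exact isCharPFunctor_thompsonA
  haveI : ((⊥ : Subgroup G).subgroupOf ⊤).Normal := by rw [bot_subgroupOf]; infer_instance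
  have hctl := Fusion.ctl_sections h𝓦
    (fun K R _ hK => Fusion.ctl_of_isPGroup h𝓦 ⟨@jW.{u}, rfl⟩ hK)
    (fun K R _ T => not_minimalFailure hp7 T) (⊤ : Subgroup G) ⊥
  have hG : Fusion.Ctl jFamily.{u} p G := hctl.congr
    ((QuotientGroup.quotientMulEquivOfEq (Subgroup.bot_subgroupOf ⊤)).trans
      (QuotientGroup.quotientBot.trans Subgroup.topEquiv)) h𝓦
  refine (hG S).trans (iSup₂_le fun W hW => ?_)
  obtain rfl : @W = @jW.{u} := hW
  exact inf_le_right

/-- For `p ≥ 7` the largest `p`-factor groups of `G` and of the normalizer of `J` agree. -/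
theorem quotient_pResidual_equiv {G : Type u} [Group G] [Finite G] (hp7 : 7 ≤ p) (S : Sylow p G)
    [(pResidual p G).Normal]
    [(pResidual p ↥(normalizer (thompsonSubgroupAOf (S : Subgroup G) : Set G))).Normal] :
    Nonempty (G ⧸ pResidual p G ≃*
      ↥(normalizer (thompsonSubgroupAOf (S : Subgroup G) : Set G)) ⧸
        pResidual p ↥(normalizer (thompsonSubgroupAOf (S : Subgroup G) : Set G))) := by
  set N := normalizer (thompsonSubgroupAOf (S : Subgroup G) : Set G) with hN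
  have hSN : (S : Subgroup G) ≤ N := le_normalizer.trans (H59.normalizer_le_normalizer_thompsonAOf _)
  let f : N →* G ⧸ pResidual p G := (QuotientGroup.mk' (pResidual p G)).comp N.subtype
  have hf : Function.Surjective f := by
    intro q
    obtain ⟨g, rfl⟩ := QuotientGroup.mk'_surjective _ q
    have hg : g ∈ ((S : Subgroup G) ⊔ pResidual p G : Subgroup G) := by
      rw [Fusion.sylow_sup_pResidual]; exact mem_top _
    rw [← SetLike.mem_coe, mul_normal] at hg
    obtain ⟨s, hs, r, hr, rfl⟩ := Set.mem_mul.mp hg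
    exact ⟨⟨s, hSN hs⟩, (QuotientGroup.eq (s := pResidual p G)).mpr (by simpa using hr)⟩
  have hker : f.ker = pResidual p N := by
    rw [← Fusion.tate_of_commutator_eq S hSN (commutator_inf_le hp7 S)]
    ext x
    rw [MonoidHom.mem_ker, mem_subgroupOf]
    exact QuotientGroup.eq_one_iff (N := pResidual p G) (x : G)
  exact ⟨((QuotientGroup.quotientMulEquivOfEq hker.symm).trans
    (QuotientGroup.quotientKerEquivOfSurjective f hf)).symm⟩

end Cfsg.Agent.H30.JCore
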